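import Cfsg.Agent.Lib.HallGen.SympSpectrum.Blocks
import Cfsg.Agent.Lib.Classical.Unitary.Matrix

/-!
# Semisimple unitary maps with commuting nilpotent maps
-/

set_option autoImplicit false

namespace CfsgLib.HallGen.UnitarySpectrum

open Polynomial Module CfsgLib.Classical CfsgLib.Classical.Herm
open CfsgLib.HallGen.SympSpectrum (exists_pow_kill exists_root_pow mul_eq_one_of_root)

/-- The orders of the tori with one block. -/
def torusOrder (q m : ℕ) : ℕ := if Odd m then (q ^ m + 1) / (q + 1) else (q ^ m - 1) / (q + 1)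

theorem mul_torusOrder_odd {q m : ℕ} (hm : Odd m) : (q + 1) * torusOrder q m = q ^ m + 1 := by
  rw [torusOrder, if_pos hm]
  refine Nat.mul_div_cancel' ?_
  simpa using hm.nat_add_dvd_pow_add_pow q 1

theorem mul_torusOrder_even {q m : ℕ} (hm : ¬ Odd m) : (q + 1) * torusOrder q m = q ^ m - 1 := by
  rw [torusOrder, if_neg hm]
  obtain ⟨j, rfl⟩ := Nat.not_odd_iff_even.1 hm
  refine Nat.mul_div_cancel' ?_
  have h1 : q ^ 2 - 1 ∣ (q ^ 2) ^ j - 1 := Nat.sub_one_dvd_pow_sub_one _ j
  rw [← pow_mul, two_mul] at h1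
  exact (Dvd.intro (q - 1) (by rw [← Nat.sq_sub_sq, one_pow])).trans h1

theorem gcd_dvd_torusOrder (q m : ℕ) (hq : 1 ≤ q) : Nat.gcd m (q + 1) ∣ torusOrder q m := by
  set z := Nat.gcd m (q + 1)
  have hsum : (torusOrder q m : ℤ) = ∑ i ∈ Finset.range m, (q : ℤ) ^ i * (-1) ^ (m - 1 - i) := by
    have h1 := geom_sum₂_mul (q : ℤ) (-1) m
    rw [sub_neg_eq_add] at h1
    refine mul_right_cancel₀ (b := (q : ℤ) + 1) (by positivity) ?_
    rw [h1]
    by_cases hm : Odd m
    · have h2 := mul_torusOrder_odd (q := q) hm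
      rw [hm.neg_one_pow]
      have h3 : ((q : ℤ) + 1) * torusOrder q m = (q : ℤ) ^ m + 1 := by exact_mod_cast h2
      linear_combination h3
    · have h2 := mul_torusOrder_even (q := q) hm
      rw [(Nat.not_odd_iff_even.1 hm).neg_one_pow]
      have h4 : (q + 1) * torusOrder q m + 1 = q ^ m := by
        have := Nat.one_le_pow m q hq
        omega
      have h3 : ((q : ℤ) + 1) * torusOrder q m + 1 = (q : ℤ) ^ m := by exact_mod_cast h4
      linear_combination h3
  rw [← ZMod.natCast_eq_zero_iff]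
  have hm : (m : ZMod z) = 0 := (ZMod.natCast_eq_zero_iff _ _).2 (Nat.gcd_dvd_left _ _)
  have hq1 : (q : ZMod z) = -1 := by
    have h : ((q + 1 : ℕ) : ZMod z) = 0 := (ZMod.natCast_eq_zero_iff _ _).2 (Nat.gcd_dvd_right _ _)
    rw [Nat.cast_add, Nat.cast_one] at h
    exact eq_neg_of_add_eq_zero_left h
  rw [← Int.cast_natCast, hsum, Int.cast_sum]
  rw [Finset.sum_congr rfl (g := fun _ => (-1 : ZMod z) ^ (m - 1)) fun i hi => ?_]
  · rw [Finset.sum_const, Finset.card_range, nsmul_eq_mul, hm, zero_mul]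
  · have hi' := Finset.mem_range.1 hi
    push_cast
    rw [hq1, ← pow_add]
    congr 1
    omega

theorem pow_div_gcd_torusOrder {G : Type*} [Monoid G] {x : G} {q m : ℕ} (hq : 1 ≤ q)
    (h : x ^ torusOrder q m = 1) : (x ^ (torusOrder q m / Nat.gcd m (q + 1))) ^ (q + 1) = 1 := by
  obtain ⟨a, ha⟩ := gcd_dvd_torusOrder q m hq
  obtain ⟨b, hb⟩ := Nat.gcd_dvd_right m (q + 1)
  have hz : 0 < Nat.gcd m (q + 1) := Nat.gcd_pos_of_pos_right _ (Nat.succ_pos q)
  rw [← pow_mul]
  conv_lhs => rw [ha, Nat.mul_div_cancel_left _ hz, hb, mul_left_comm, ← mul_assoc, ← ha]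
  rw [pow_mul, h, one_pow]

/-- Divisors of a power of a block root, as scalar powers of the map. -/
def ScalarPow {F V : Type*} [Field F] [AddCommGroup V] [Module F V] (S : Module.End F V) (q e : ℕ) : Prop :=
  ∃ c : F, c ^ (q + 1) = 1 ∧ ∀ v, (S ^ e) v = c • v

variable {F : Type*} [Field F] [Fintype F] {q : ℕ} {V : Type*} [AddCommGroup V] [Module F V]
  [FiniteDimensional F V]

theorem charpoly_eq_of_kill {W : Type*} [AddCommGroup W] [Module F W] [FiniteDimensional F W] (T : Module.End F W)
    {g : F[X]} (hgm : g.Monic) (hgi : Irreducible g) (h0 : aeval T g = 0) (hd : finrank F W = g.natDegree) :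
    T.charpoly = g := by
  have : Nontrivial W := Module.nontrivial_of_finrank_pos (R := F) (hd ▸ hgi.natDegree_pos)
  refine eq_of_monic_of_dvd_of_natDegree_le hgm (LinearMap.charpoly_monic _) ?_ ?_
  · rw [minpoly.eq_of_irreducible_of_monic hgi h0 hgm]
    exact LinearMap.minpoly_dvd_charpoly _
  · rw [LinearMap.charpoly_natDegree, hd]

theorem det_eq_sign {W : Type*} [AddCommGroup W] [Module F W] [FiniteDimensional F W] (T : Module.End F W) :
    LinearMap.det T = (-1) ^ finrank F W * T.charpoly.coeff 0 := by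
  classical
  let b := Module.finBasis F W
  rw [← LinearMap.det_toMatrix b, Matrix.det_eq_sign_charpoly_coeff, LinearMap.charpoly_toMatrix, Fintype.card_fin]

/-- Maps killed by the same irreducible polynomial of full degree have the same determinant. -/
theorem det_eq_of_kill {W X' : Type*} [AddCommGroup W] [Module F W] [FiniteDimensional F W] [AddCommGroup X']
    [Module F X'] [FiniteDimensional F X'] (T : Module.End F W) (T' : Module.End F X')
    {g : F[X]} (hgm : g.Monic) (hgi : Irreducible g) (h0 : aeval T g = 0) (hd : finrank F W = g.natDegree)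
    (h0' : aeval T' g = 0) (hd' : finrank F X' = g.natDegree) : LinearMap.det T = LinearMap.det T' := by
  rw [det_eq_sign, det_eq_sign,
    charpoly_eq_of_kill T hgm hgi h0 hd, charpoly_eq_of_kill T' hgm hgi h0' hd', hd, hd']

/-- The block alternative for a semisimple unitary map and a commuting nilpotent map. -/
theorem block_cases (hF : Fintype.card F = q ^ 2) {p : ℕ} [Fact p.Prime] [CharP F p]
    {B : V →ₛₗ[powHom hF] V →ₗ[F] F} (hB : IsHerm B) {n : ℕ} (hn : 1 ≤ n) (hV : finrank F V = n)
    (S N : Module.End F V) (M : ℕ) (hM : 1 ≤ M) (hMp : (M : F) ≠ 0) (hSM : S ^ M = 1)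
    (hiso : ∀ u v, B (S u) (S v) = B u v) (hdet : LinearMap.det S = 1) (hN : IsNilpotent N)
    (hSN : Commute S N) :
    (∃ W W' : Submodule F V, W ≠ ⊥ ∧ W' ≠ ⊥ ∧ IsCompl W W' ∧ (∀ u ∈ W, ∀ v ∈ W', B u v = 0) ∧
        ∀ T : Module.End F V, Commute T S → (∀ u ∈ W, T u ∈ W) ∧ ∀ u ∈ W', T u ∈ W') ∨
      ∃ m k, n = m * k ∧ 1 ≤ m ∧ ScalarPow S q (torusOrder q m) ∧ N ^ k = 0 ∧
        (k = 1 → ScalarPow S q (torusOrder q n / Nat.gcd n (q + 1))) := by
  classical
  have := Module.nontrivial_of_finrank_pos (R := F) (M := V) (by omega)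
  have hq2 := two_le_of_card_sq hF
  have hQ : Nat.card F = q ^ 2 := by rw [Nat.card_eq_fintype_card, hF]
  let R : F[X] → F[X] := fun P => (P.map (powHom hF)).comp (X ^ (M - 1))
  have hR : ∀ P, aeval S (R P) = aeval (S ^ (M - 1)) (P.map (powHom hF)) := fun P => by
    show aeval S ((P.map (powHom hF)).comp _) = _
    rw [aeval_comp, map_pow, aeval_X]
  have hRmul : ∀ P Q, R (P * Q) = R P * R Q := fun P Q => by
    show ((P * Q).map (powHom hF)).comp _ = _
    rw [Polynomial.map_mul, mul_comp]
  have hadj : ∀ (P : F[X]) (u v : V), B (aeval S P u) v = B u (aeval S (R P) v) := by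
    intro P
    induction P using Polynomial.induction_on' with
    | add P Q hP hQ =>
      intro u v
      rw [map_add, LinearMap.add_apply, add_left, hP, hQ, hR, hR, hR, Polynomial.map_add, map_add,
        LinearMap.add_apply, map_add]
    | monomial e c =>
      intro u v
      have hpow : ∀ (j : ℕ) (u v : V), B ((S ^ j) u) ((S ^ j) v) = B u v := by
        intro j
        induction j with
        | zero => intro u v; rfl
        | succ j ih => intro u v; rw [pow_succ, Module.End.mul_apply, Module.End.mul_apply, ih, hiso]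
      have hinv : (S ^ e) (((S ^ (M - 1)) ^ e) v) = v := by
        rw [← Module.End.mul_apply, ← (Commute.pow_self S (M - 1)).symm.mul_pow, ← pow_succ',
          Nat.sub_add_cancel hM, hSM, one_pow]
        rfl
      rw [hR, Polynomial.map_monomial, aeval_monomial, aeval_monomial, Module.algebraMap_end_eq_smul_id]
      show B (c • (S ^ e) u) v = B u ((powHom hF) c • ((S ^ (M - 1)) ^ e) v)
      rw [smul_left, smul_right]
      conv_lhs => rw [← hinv, hpow]
  have hsw : ∀ u v, B u v = 0 → B v u = 0 := fun u v h => hB.eq_zero_symm h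
  have horth : ∀ {P Q : F[X]}, P ∣ R Q → ∀ w, aeval S P w = 0 → ∀ v, B w (aeval S Q v) = 0 := by
    intro P Q h w hw v
    refine hsw _ _ ?_
    rw [hadj, mul_eq_one_of_root S h hw, map_zero]
  set μ := minpoly F S with hμdef
  have hint : IsIntegral F S := Algebra.IsIntegral.isIntegral S
  have hμm : μ.Monic := minpoly.monic hint
  have hμdvd : μ ∣ X ^ M - 1 := minpoly.dvd F S (by simp [hSM])
  have hsep : (X ^ M - 1 : F[X]).Separable := by
    rw [← map_one C]; exact separable_X_pow_sub_C 1 hMp one_ne_zero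
  have hsq : Squarefree μ := (hsep.of_dvd hμdvd).squarefree
  obtain ⟨f, hfm, hfi, hfμ⟩ := Polynomial.exists_monic_irreducible_factor μ (minpoly.not_isUnit F S)
  have : Fact (Irreducible f) := ⟨hfi⟩
  haveI : FiniteDimensional F (AdjoinRoot f) := (AdjoinRoot.powerBasis hfi.ne_zero).finite
  haveI : Finite (AdjoinRoot f) := Module.finite_of_finite F
  haveI : Fintype (AdjoinRoot f) := Fintype.ofFinite _
  haveI : CharP (AdjoinRoot f) p := charP_of_injective_algebraMap (algebraMap F (AdjoinRoot f)).injective p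
  obtain ⟨e₀, hq⟩ : ∃ e, q = p ^ e := by
    obtain ⟨p', e, hp', hc, hq⟩ := exists_prime_pow_root hF
    exact ⟨e, (CharP.eq F hc ‹CharP F p›) ▸ hq⟩
  set r := AdjoinRoot.root f with hr
  set D := f.natDegree with hD
  have hD1 : 1 ≤ D := hfi.natDegree_pos
  have hroot : ∀ P : F[X], aeval r P = 0 ↔ f ∣ P := fun P => by
    rw [AdjoinRoot.aeval_eq, AdjoinRoot.mk_eq_zero]
  have hfrK : finrank F (AdjoinRoot f) = D := (AdjoinRoot.powerBasis hfi.ne_zero).finrank.trans (AdjoinRoot.powerBasis_dim _)
  have hcardK : Nat.card (AdjoinRoot f) = q ^ (2 * D) := by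
    rw [Module.natCard_eq_pow_finrank (K := F), hfrK, hQ, ← pow_mul]
  have hperiod : ∀ (x : AdjoinRoot f) (c j : ℕ), x ^ q ^ (2 * D * c + j) = x ^ q ^ j := fun x c j => by
    rw [pow_add, pow_mul, pow_mul q, ← hcardK, Nat.card_eq_fintype_card, FiniteField.pow_card_pow]
  have hinj : ∀ j (x y : AdjoinRoot f), x ^ q ^ j = y ^ q ^ j → x = y := fun j x y h => by
    rw [hq, ← pow_mul] at h
    exact iterateFrobenius_inj (AdjoinRoot f) p (e₀ * j) h
  -- the twisted evaluation
  have htw : ∀ (P : F[X]) (x : AdjoinRoot f), aeval (x ^ q) (P.map (powHom hF)) = (aeval x P) ^ q := by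
    intro P x
    induction P using Polynomial.induction_on' with
    | add a b ha hb => rw [Polynomial.map_add, map_add, map_add, ha, hb, hq, add_pow_char_pow]
    | monomial e c =>
      rw [Polynomial.map_monomial, aeval_monomial, aeval_monomial, mul_pow, powHom_apply, map_pow, ← pow_mul,
        ← pow_mul, mul_comm q e]
  have hrM : r ^ M = 1 := by
    have := (hroot _).2 (hfμ.trans hμdvd)
    rwa [map_sub, map_pow, aeval_X, map_one, sub_eq_zero] at this
  have hrne : r ≠ 0 := fun e => by rw [e, zero_pow (by omega)] at hrM; exact zero_ne_one hrM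
  have hrinv : r * r ^ (M - 1) = 1 := by rw [← pow_succ', Nat.sub_add_cancel hM, hrM]
  set r' := (r ^ (M - 1)) ^ q with hr'
  have hrr' : r ^ q * r' = 1 := by rw [hr', ← mul_pow, hrinv, one_pow]
  have hr'M : r' ^ M = 1 := by rw [hr', ← pow_mul, ← pow_mul, show (M - 1) * (q * M) = M * ((M - 1) * q) by ring, pow_mul, hrM, one_pow]
  have hr'r : r' ^ (M - 1) = r ^ q := by
    calc r' ^ (M - 1) = r' ^ (M - 1) * (r ^ q * r') := by rw [hrr', mul_one]
      _ = r ^ q * r' ^ M := by rw [mul_comm (r ^ q), ← mul_assoc, ← pow_succ, Nat.sub_add_cancel hM, mul_comm]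
      _ = _ := by rw [hr'M, mul_one]
  set f' := minpoly F r' with hf'def
  have hint' : IsIntegral F r' := Algebra.IsIntegral.isIntegral r'
  have hf'i : Irreducible f' := minpoly.irreducible hint'
  have hf'm : f'.Monic := minpoly.monic hint'
  have haeR : ∀ (x : AdjoinRoot f) (P : F[X]), aeval x (R P) = aeval (x ^ (M - 1)) (P.map (powHom hF)) := fun x P => by
    show aeval x ((P.map (powHom hF)).comp _) = _
    rw [aeval_comp, map_pow, aeval_X]
  have hfR : f ∣ R f' := (hroot _).1 (by
    rw [haeR]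
    refine hinj 2 _ 0 ?_
    have h1 := htw (f'.map (powHom hF)) (r' )
    have h2 : (f'.map (powHom hF)).map (powHom hF) = f' := by
      rw [Polynomial.map_map]
      conv_rhs => rw [← Polynomial.map_id (p := f')]
      congr 1
      exact RingHom.ext hB.invol.invol
    rw [zero_pow (pow_ne_zero _ (by omega)), pow_two, pow_mul, ← htw, h2, ← hr', minpoly.aeval F r',
      zero_pow (by omega)])
  have hf'R : f' ∣ R f := minpoly.dvd F r' (by
    rw [haeR, hr'r, htw, (hroot f).2 dvd_rfl, zero_pow (by omega)])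
  have hker : ∀ P : F[X], P ∣ μ → P.Monic → P ≠ 1 → ∃ w, w ≠ 0 ∧ aeval S P w = 0 := by
    rintro P ⟨Q, hQ⟩ hPm hP1
    by_contra hcon
    push Not at hcon
    have hQm : Q.Monic := hPm.of_mul_monic_left (hQ ▸ hμm)
    have hz : aeval S Q = 0 := LinearMap.ext fun v => by
      by_contra hv
      refine hcon _ hv ?_
      rw [← Module.End.mul_apply, ← map_mul, ← hQ, minpoly.aeval]
      rfl
    have hle := natDegree_le_of_dvd (minpoly.dvd F S hz) hQm.ne_zero
    rw [← hμdef, hQ, hPm.natDegree_mul hQm] at hle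
    exact hP1 (hPm.natDegree_eq_zero.1 (by omega))
  have hf1 : f ≠ 1 := fun h => hfi.not_isUnit (h ▸ isUnit_one)
  have hf'μ : f' ∣ μ := by
    by_contra h
    obtain ⟨a, b, hab⟩ := hf'i.coprime_iff_not_dvd.2 h
    obtain ⟨w, hw0, hw⟩ := hker f hfμ hfm hf1
    refine hw0 (hB.nondeg w fun v => ?_)
    have hv : v = aeval S f' (aeval S a v) := by
      rw [← Module.End.mul_apply, ← map_mul, mul_comm f']
      have := congrArg (fun P => aeval S P v) hab
      simp only [map_add, LinearMap.add_apply, map_mul, map_one, minpoly.aeval, hμdef] at this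
      simpa using this.symm
    rw [hv]
    exact horth hfR w hw _
  set h : F[X] := if f' = f then f else f * f' with hh
  have hhm : h.Monic := by rw [hh]; split_ifs; exacts [hfm, hfm.mul hf'm]
  have hhR : h ∣ R h := by
    rw [hh]; split_ifs with he
    · rw [he] at hfR; exact hfR
    · rw [hRmul]
      exact (mul_comm f f').symm ▸ mul_dvd_mul hf'R hfR
  have hcop' : f' ≠ f → IsCoprime f f' := fun he => hfi.coprime_iff_not_dvd.2 fun hd =>
    he (eq_of_monic_of_associated hf'm hfm (hfi.associated_of_dvd hf'i hd).symm)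
  have hhμ : h ∣ μ := by
    rw [hh]; split_ifs with he
    · exact hfμ
    · exact (hcop' he).mul_dvd hfμ hf'μ
  have hh1 : h ≠ 1 := fun e => by
    have : f ∣ h := by rw [hh]; split_ifs; exacts [dvd_rfl, dvd_mul_right _ _]
    exact hfi.not_isUnit (isUnit_of_dvd_one (e ▸ this))
  obtain ⟨h', hh'⟩ := hhμ
  have hh'm : h'.Monic := hhm.of_mul_monic_left (hh' ▸ hμm)
  have hinv : ∀ (P : F[X]) (T : Module.End F V), Commute T S → ∀ u ∈ LinearMap.ker (aeval S P),
      T u ∈ LinearMap.ker (aeval S P) := by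
    intro P T hT u hu
    rw [LinearMap.mem_ker] at hu ⊢
    rw [← Module.End.mul_apply, ← (SympSpectrum.commute_aeval hT P).eq, Module.End.mul_apply, hu, map_zero]
  have hcompl : ∀ {g g' : F[X]}, IsCoprime g g' → aeval S (g * g') = 0 →
      IsCompl (LinearMap.ker (aeval S g)) (LinearMap.ker (aeval S g')) := by
    intro g g' hc h0
    refine ⟨Polynomial.disjoint_ker_aeval_of_isCoprime S hc, codisjoint_iff.2 ?_⟩
    rw [Polynomial.sup_ker_aeval_eq_ker_aeval_mul_of_coprime S hc, h0, LinearMap.ker_zero]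
  have horth' : ∀ {g g' g₀ : F[X]}, g ∣ R g₀ → IsCoprime g₀ g' →
      ∀ u ∈ LinearMap.ker (aeval S g), ∀ v ∈ LinearMap.ker (aeval S g'), B u v = 0 := by
    intro g g' g₀ hg ⟨a, b, hab⟩ u hu v hv
    have e : v = aeval S g₀ (aeval S a v) := by
      have := congrArg (fun P => aeval S P v) hab
      simp only [map_add, LinearMap.add_apply, map_mul, map_one, Module.End.mul_apply,
        LinearMap.mem_ker.1 hv, map_zero, add_zero, Module.End.one_apply] at this
      rw [← Module.End.mul_apply, ← map_mul, mul_comm, map_mul, Module.End.mul_apply]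
      exact this.symm
    rw [e]
    exact horth hg u (LinearMap.mem_ker.1 hu) _
  by_cases hc : h' = 1
  swap
  · left
    have hcop : IsCoprime h h' := (isRelPrime_iff_isCoprime).1 ((squarefree_mul_iff.1 (hh' ▸ hsq)).1)
    refine ⟨_, _, ?_, ?_, hcompl hcop (hh' ▸ minpoly.aeval F S), horth' hhR hcop,
      fun T hT => ⟨hinv h T hT, hinv h' T hT⟩⟩
    · obtain ⟨w, hw0, hw⟩ := hker h ⟨h', hh'⟩ hhm hh1
      exact fun e => hw0 ((Submodule.mem_bot F).1 (e ▸ LinearMap.mem_ker.2 hw))
    · obtain ⟨w, hw0, hw⟩ := hker h' ⟨h, by rw [hh', mul_comm]⟩ hh'm hc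
      exact fun e => hw0 ((Submodule.mem_bot F).1 (e ▸ LinearMap.mem_ker.2 hw))
  right
  have hμh : μ = h := by rw [hh', hc, mul_one]
  -- scalar powers
  have hscal : ∀ e, (r ^ e) ^ (q + 1) = 1 → ScalarPow S q e := by
    intro e he
    have hmem : r ^ e ∈ (algebraMap F (AdjoinRoot f)).range := by
      by_contra hx
      have hroots : ∀ a : F, (algebraMap F (AdjoinRoot f) a) ^ q ^ 2 = algebraMap F (AdjoinRoot f) a := fun a => by
        rw [← map_pow, ← hF, FiniteField.pow_card]
      have hx2 : (r ^ e) ^ q ^ 2 = r ^ e := by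
        have h1 : (r ^ e) ^ ((q + 1) * (q - 1) + 1) = r ^ e := by rw [pow_succ, pow_mul, he, one_pow, one_mul]
        rwa [← Nat.sq_sub_sq, one_pow, Nat.sub_add_cancel (Nat.one_le_pow _ _ (by omega))] at h1
      set P : (AdjoinRoot f)[X] := X ^ q ^ 2 - X with hP
      have hP0 : P ≠ 0 := FiniteField.X_pow_card_sub_X_ne_zero _ (Nat.one_lt_pow two_ne_zero (by omega))
      have hPd : P.natDegree = q ^ 2 :=
        FiniteField.X_pow_card_sub_X_natDegree_eq _ (Nat.one_lt_pow two_ne_zero (by omega))
      have hsub : insert (r ^ e) (Finset.univ.image (algebraMap F (AdjoinRoot f))) ⊆ P.roots.toFinset := by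
        intro y hy
        rw [Multiset.mem_toFinset, mem_roots hP0]
        rcases Finset.mem_insert.1 hy with rfl | hy
        · simp [hP, hx2]
        · obtain ⟨a, -, rfl⟩ := Finset.mem_image.1 hy
          simp [hP, hroots, ← AdjoinRoot.algebraMap_eq]
      have h1 := (Finset.card_le_card hsub).trans ((Multiset.toFinset_card_le _).trans (card_roots' P))
      rw [Finset.card_insert_of_notMem (fun hy => by
        obtain ⟨a, -, ha⟩ := Finset.mem_image.1 hy
        exact hx ⟨a, ha⟩), Finset.card_image_of_injective _ (algebraMap F (AdjoinRoot f)).injective,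
        Finset.card_univ, hF, hPd] at h1
      omega
    obtain ⟨c, hcr⟩ := hmem
    have hc1 : c ^ (q + 1) = 1 := (algebraMap F (AdjoinRoot f)).injective (by rw [map_pow, hcr, he, map_one])
    have hdiv : h ∣ X ^ e - C c := by
      have h1 : f ∣ X ^ e - C c := (hroot _).1 (by rw [map_sub, map_pow, aeval_X, aeval_C, hcr, sub_self])
      have h2 : f' ∣ X ^ e - C c := minpoly.dvd F r' (by
        rw [map_sub, map_pow, aeval_X, aeval_C, sub_eq_zero, hr', ← pow_mul, ← pow_mul, hcr]
        have h3 : (r ^ e) ^ q * r ^ e = 1 := by rw [← pow_succ, he]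
        refine mul_left_cancel₀ (pow_ne_zero q (pow_ne_zero e hrne)) ?_
        rw [h3, ← pow_mul, ← pow_add, show e * q + (M - 1) * (q * e) = M * (e * q) by
          obtain ⟨c, rfl⟩ : ∃ c, M = c + 1 := ⟨M - 1, by omega⟩
          rw [Nat.add_sub_cancel]; ring, pow_mul, hrM, one_pow])
      rw [hh]; split_ifs with he'
      · exact h1
      · exact (hcop' he').mul_dvd h1 h2
    obtain ⟨Q, hQ'⟩ : μ ∣ X ^ e - C c := hμh ▸ hdiv
    have h1 := congrArg (aeval S) hQ'
    rw [map_sub, map_pow, aeval_X, aeval_C, map_mul, minpoly.aeval, zero_mul, sub_eq_zero] at h1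
    exact ⟨c, hc1, fun v => by rw [h1, Module.algebraMap_end_apply]⟩
  have hnorm : algebraMap F (AdjoinRoot f) (Algebra.norm F r) = r ^ ((q ^ (2 * D) - 1) / (q ^ 2 - 1)) := by
    rw [FiniteField.algebraMap_norm_eq_pow, hcardK, hQ]
  have hdetr : ∀ (W : Submodule F V) (hW : ∀ u ∈ W, S u ∈ W) (g : F[X]) (x : AdjoinRoot f), g.Monic → Irreducible g →
      (∀ u ∈ W, aeval S g u = 0) → finrank F W = g.natDegree → g.natDegree = D → aeval x g = 0 →
      LinearMap.det (S.restrict hW) = Algebra.norm F x := by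
    intro W hW g x hgm hgi hgW hgd hgD hx
    rw [Algebra.norm_apply]
    refine det_eq_of_kill _ _ hgm hgi (LinearMap.ext fun u => Subtype.ext ?_) hgd ?_ (hfrK.trans hgD.symm)
    · have : ∀ (P : F[X]) (w : W), ((aeval (S.restrict hW) P w : W) : V) = aeval S P (w : V) := by
        intro P
        induction P using Polynomial.induction_on with
        | C c => intro w; simp [Module.algebraMap_end_apply]
        | add a b ha hb => intro w; simp [ha, hb]
        | monomial k c ih =>
          intro w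
          rw [pow_succ, ← mul_assoc, map_mul (aeval (S.restrict hW)), map_mul (aeval S) _ X, aeval_X, aeval_X,
            Module.End.mul_apply, Module.End.mul_apply, ih]
          rfl
      rw [this]
      exact hgW u u.2
    · rw [aeval_algHom_apply, hx, map_zero]
  have hminr : minpoly F r = f :=
    (AdjoinRoot.minpoly_root hfi.ne_zero).trans (by rw [hfm.leadingCoeff, inv_one, map_one, mul_one])
  by_cases he : f' = f
  · have hhf : h = f := by rw [hh, if_pos he]
    obtain ⟨i, hi⟩ := exists_root_pow (p := p) hfi hfm ((M - 1) * q) (by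
      rw [pow_mul]; exact (congrArg (aeval r') he).symm.trans (minpoly.aeval F r'))
    rw [← hr, pow_mul, ← hr', hQ, ← pow_mul q] at hi
    -- make the exponent positive
    obtain ⟨i, hi1, hi⟩ : ∃ i', 1 ≤ i' ∧ r' = r ^ q ^ (2 * i') :=
      ⟨i + D, by omega, by rw [hi, show 2 * (i + D) = 2 * D * 1 + 2 * i by ring, hperiod]⟩
    have hrpow : r ^ q * r ^ q ^ (2 * i) = 1 := hi ▸ hrr'
    have h2i : r ^ q ^ (2 * (2 * i - 1)) = r := by
      refine hinj 2 _ _ ?_
      rw [← pow_mul, ← pow_add, show 2 * (2 * i - 1) + 2 = 2 * i + 2 * i by omega]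
      have h1 : (r ^ q * r ^ q ^ (2 * i)) ^ q ^ (2 * i) = 1 := by rw [hrpow, one_pow]
      have h2 : r ^ q ^ 2 * r' ^ q = 1 := by rw [pow_two, pow_mul, ← mul_pow, hrr', one_pow]
      rw [mul_pow, ← pow_mul, ← pow_mul, mul_comm q, pow_mul, ← hi, ← pow_add] at h1
      exact mul_left_cancel₀ (pow_ne_zero q (hi ▸ pow_ne_zero _ hrne))
        (h1.trans (mul_comm (r ^ q ^ 2) _ ▸ h2).symm)
    have hD2 : D ∣ 2 * i - 1 := by
      refine (hfi.natDegree_dvd_iff_dvd_X_pow_card_pow_sub_X).2 ((hroot _).1 ?_)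
      rw [hQ, ← pow_mul, map_sub, map_pow, aeval_X, h2i, sub_self]
    obtain ⟨c, hc'⟩ := hD2
    have hodd : Odd (D * c) := ⟨i - 1, by omega⟩
    obtain ⟨hDodd, c', rfl⟩ := Nat.odd_mul.1 hodd
    have hqD : r * r ^ q ^ D = 1 := by
      refine hinj 1 _ _ ?_
      rw [pow_one, one_pow, mul_pow, ← pow_mul, ← pow_succ]
      have h1 : q ^ (2 * i) = q ^ (2 * D * c' + (D + 1)) := by
        congr 1
        rw [show 2 * D * c' + (D + 1) = D * (2 * c' + 1) + 1 by ring]
        omega
      rwa [h1, hperiod] at hrpow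
    obtain ⟨k, hk, hkill⟩ := exists_pow_kill hfi S N hN hSN
    have htop : LinearMap.ker (aeval S f) = ⊤ := by
      rw [← hhf, ← hμh, minpoly.aeval, LinearMap.ker_zero]
    rw [htop, finrank_top, hV] at hk
    refine ⟨D, k, hk, hD1, hscal _ ?_, LinearMap.ext fun v => hkill v (htop ▸ Submodule.mem_top), fun hk1 => hscal _ ?_⟩
    · rw [← pow_mul, mul_comm (torusOrder q D), mul_torusOrder_odd hDodd, pow_succ, mul_comm, hqD]
    · subst hk1
      rw [mul_one] at hk
      have hE := mul_torusOrder_odd (q := q) hDodd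
      have hrE : r ^ torusOrder q D = 1 := by
        have h1 : r ^ ((q + 1) * torusOrder q D) = 1 := by rw [hE, pow_succ, mul_comm, hqD]
        have hd : LinearMap.det S = Algebra.norm F r := by
          rw [← hdetr ⊤ (fun u _ => Submodule.mem_top) f r hfm hfi (fun u _ => LinearMap.mem_ker.1 (htop ▸ Submodule.mem_top))
            (by rw [finrank_top, hV, hk]) rfl ((hroot f).2 dvd_rfl), ← LinearMap.det_conj S Submodule.topEquiv.symm]
          exact congrArg LinearMap.det (LinearMap.ext fun u => Subtype.ext rfl)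
        obtain ⟨j, hj⟩ := hDodd
        have hX : ∃ X, q ^ D - 1 = (q - 1) * X ∧ X.Coprime (q + 1) := by
          refine ⟨∑ t ∈ Finset.range D, q ^ t, ?_, ?_⟩
          · rw [mul_comm, geom_sum_mul_of_one_le (by omega)]
          · rw [hj]
            have hrec : ∀ j, ∃ Y, ∑ t ∈ Finset.range (2 * j + 1), q ^ t = (q + 1) * Y + 1 := by
              intro j
              induction j with
              | zero => exact ⟨0, by simp⟩
              | succ j ih =>
                obtain ⟨Y, hY⟩ := ih
                exact ⟨Y + q ^ (2 * j + 1), by rw [show 2 * (j + 1) + 1 = 2 * j + 1 + 1 + 1 by ring,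
                  Finset.sum_range_succ, Finset.sum_range_succ, hY]; ring⟩
            obtain ⟨Y, hY⟩ := hrec j
            rw [hY, Nat.coprime_mul_left_add_left]
            exact Nat.coprime_one_left _
        obtain ⟨X, hX1, hX2⟩ := hX
        have h3 : (q ^ (2 * D) - 1) / (q ^ 2 - 1) = torusOrder q D * X := by
          refine Nat.div_eq_of_eq_mul_left (by have := Nat.pow_le_pow_left hq2 2; omega) ?_
          rw [mul_comm 2 D, pow_mul, show (q ^ D) ^ 2 - 1 = (q ^ D) ^ 2 - 1 ^ 2 by rw [one_pow], Nat.sq_sub_sq, ← hE,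
            hX1, show q ^ 2 - 1 = (q + 1) * (q - 1) by rw [← Nat.sq_sub_sq, one_pow]]
          ring
        have h4 : r ^ (torusOrder q D * X) = 1 := by rw [← h3, ← hnorm, ← hd, hdet, map_one]
        have h5 := Nat.dvd_gcd (orderOf_dvd_of_pow_eq_one h1) (orderOf_dvd_of_pow_eq_one h4)
        rw [mul_comm (torusOrder q D) X, Nat.gcd_mul_right, hX2.symm.gcd_eq_one, one_mul] at h5
        exact orderOf_dvd_iff_pow_eq_one.1 h5
      rw [hk]
      exact pow_div_gcd_torusOrder (by omega) hrE
  · have hhf : h = f * f' := by rw [hh, if_neg he]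
    obtain ⟨a, b, hab⟩ := hcop' he
    have h0 : aeval S (f * f') = 0 := by rw [← hhf, ← hμh, minpoly.aeval]
    have hc1 := hcompl ⟨a, b, hab⟩ h0
    set W := LinearMap.ker (aeval S f) with hW
    set W' := LinearMap.ker (aeval S f') with hW'
    -- both are totally isotropic
    have hisoW : ∀ u ∈ W, ∀ v ∈ W, B u v = 0 := horth' hfR ⟨b, a, by rw [← hab]; ring⟩
    have hisoW' : ∀ u ∈ W', ∀ v ∈ W', B u v = 0 := horth' hf'R ⟨a, b, hab⟩
    have hle : ∀ (U U' : Submodule F V), IsCompl U U' → (∀ u ∈ U, ∀ v ∈ U, B u v = 0) →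
        finrank F U ≤ finrank F U' := by
      intro U U' hUU hUz
      let τ : U → (U' →ₗ[F] F) := fun u => (B (u : V)).comp U'.subtype
      have hτ : Function.Injective τ := by
        intro v w hvw
        refine Subtype.ext (sub_eq_zero.1 (hB.nondeg _ fun y => ?_))
        obtain ⟨y₁, hy₁, y₂, hy₂, rfl⟩ := Submodule.mem_sup.1 (hUU.sup_eq_top.symm ▸ Submodule.mem_top : y ∈ U ⊔ U')
        rw [map_add, hUz _ (sub_mem v.2 w.2) _ hy₁, zero_add, sub_left, sub_eq_zero]
        exact LinearMap.congr_fun hvw ⟨y₂, hy₂⟩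
      have : Finite V := Module.finite_of_finite F
      have : Finite (U' →ₗ[F] F) := Module.finite_of_finite F
      have h1 := Nat.card_le_card_of_injective τ hτ
      rw [Module.natCard_eq_pow_finrank (K := F), Module.natCard_eq_pow_finrank (K := F) (V := U' →ₗ[F] F),
        Subspace.dual_finrank_eq] at h1
      exact (Nat.pow_le_pow_iff_right (Finite.one_lt_card : 1 < Nat.card F)).1 h1
    have hsum : finrank F W + finrank F W' = n := by rw [Submodule.finrank_add_eq_of_isCompl hc1, hV]
    have h1 := hle W W' hc1 hisoW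
    have h2 := hle W' W hc1.symm hisoW'
    obtain ⟨k, hk, hkill⟩ := exists_pow_kill hfi S N hN hSN
    obtain ⟨k', hk', hkill'⟩ := exists_pow_kill hf'i S N hN hSN
    have hdeg : f'.natDegree = D := by
      refine le_antisymm ?_ ?_
      · exact hfrK ▸ minpoly.natDegree_le (A := F) r'
      · conv_lhs => rw [hD, ← hminr]
        rw [← IntermediateField.adjoin.finrank (Algebra.IsIntegral.isIntegral _), hf'def,
          ← IntermediateField.adjoin.finrank hint']
        refine IntermediateField.finrank_le_of_le_right ?_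
        rw [IntermediateField.adjoin_simple_le_iff]
        have hrq : (r ^ q) ^ q ^ (2 * D - 1) = r := by
          rw [← pow_mul, ← pow_succ', show 2 * D - 1 + 1 = 2 * D * 1 + 0 by omega, hperiod, pow_zero, pow_one]
        rw [← hrq, ← hr'r]
        exact pow_mem (pow_mem (IntermediateField.mem_adjoin_simple_self F r') _) _
    rw [← hW] at hk
    rw [← hW', hdeg] at hk'
    rw [← hD] at hk
    have hkk : k' = k := mul_left_cancel₀ (by omega : D ≠ 0) (by omega)
    subst hkk
    have heven : ¬ Odd (2 * D) := Nat.not_odd_iff_even.2 (even_two_mul D)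
    have hr1 : r ^ (q ^ (2 * D) - 1) = 1 := by
      have h3 := hperiod r 1 0
      rw [mul_one, add_zero, pow_zero, pow_one, ← Nat.sub_add_cancel (Nat.one_le_pow (2 * D) q (by omega)), pow_succ] at h3
      exact (mul_eq_right₀ hrne).1 h3
    have hn' : n = 2 * D * k' := by rw [mul_assoc]; omega
    refine ⟨2 * D, k', hn', by omega, hscal _ ?_,
      LinearMap.ext fun v => ?_, fun hk1 => hscal _ ?_⟩
    · rw [← pow_mul, mul_comm (torusOrder q _), mul_torusOrder_even heven, hr1]
    · obtain ⟨w, hw, w', hw', rfl⟩ := Submodule.mem_sup.1 (hc1.sup_eq_top.symm ▸ Submodule.mem_top : v ∈ W ⊔ W')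
      rw [map_add, hkill w hw, hkill' w' hw', add_zero]
      rfl
    · subst hk1
      rw [mul_one] at hn' hk hk'
      rw [hn']
      refine pow_div_gcd_torusOrder (by omega) ?_
      have hWS := hinv f S (Commute.refl S)
      have hWS' := hinv f' S (Commute.refl S)
      have hd : LinearMap.det S = Algebra.norm F r * Algebra.norm F r' := by
        rw [← hdetr W hWS f r hfm hfi (fun u hu => LinearMap.mem_ker.1 hu) hk rfl ((hroot f).2 dvd_rfl),
          ← hdetr W' hWS' f' r' hf'm hf'i (fun u hu => LinearMap.mem_ker.1 hu) (hk'.trans hdeg.symm) hdeg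
            (minpoly.aeval F r'), ← LinearMap.det_prodMap, ← LinearMap.det_conj S (W.prodEquivOfIsCompl W' hc1).symm]
        refine congrArg LinearMap.det (LinearMap.ext fun x => ?_)
        simp only [LinearEquiv.conj_apply, LinearMap.comp_apply, LinearEquiv.coe_coe, LinearEquiv.symm_symm]
        rw [LinearEquiv.symm_apply_eq]
        simp [map_add]
      set X := (q ^ (2 * D) - 1) / (q ^ 2 - 1) with hX
      have hXE : (q - 1) * X = torusOrder q (2 * D) := by
        have hdiv : q ^ 2 - 1 ∣ q ^ (2 * D) - 1 := by rw [pow_mul]; exact Nat.sub_one_dvd_pow_sub_one _ D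
        have e1 := Nat.mul_div_cancel' hdiv
        rw [← hX, ← mul_torusOrder_even heven, show q ^ 2 - 1 = (q + 1) * (q - 1) by rw [← Nat.sq_sub_sq, one_pow],
          mul_assoc] at e1
        exact Nat.eq_of_mul_eq_mul_left (by omega) e1
      have hnorm' : algebraMap F (AdjoinRoot f) (Algebra.norm F r') = r' ^ X := by
        rw [FiniteField.algebraMap_norm_eq_pow, hcardK, hQ]
      have h3 : r ^ X * r' ^ X = 1 := by rw [← hnorm', hX, ← hnorm, ← map_mul, ← hd, hdet, map_one]
      have h4 : r ^ (q * X) = r ^ X := by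
        calc r ^ (q * X) = r ^ (q * X) * (r ^ X * r' ^ X) := by rw [h3, mul_one]
          _ = r ^ X * (r ^ q * r') ^ X := by rw [mul_pow, ← pow_mul]; ring
          _ = _ := by rw [hrr', one_pow, mul_one]
      rw [← hXE]
      have h5 : r ^ ((q - 1) * X) * r ^ X = r ^ X := by
        rw [← pow_add, show (q - 1) * X + X = q * X by rw [← Nat.succ_mul, Nat.succ_eq_add_one, Nat.sub_add_cancel (by omega)], h4]
      exact (mul_eq_right₀ (pow_ne_zero _ hrne)).1 h5

end CfsgLib.HallGen.UnitarySpectrum
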