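import Cfsg.Agent.Lib.HallGen.UnitarySpectrum.Blocks
import Cfsg.Agent.Lib.Classical.ClassTheory.RegularSU

/-!
# Elements of prescribed order in `PSU`
-/

set_option autoImplicit false

namespace CfsgLib.HallGen.UnitarySpectrum

open Module CfsgLib.Classical CfsgLib.Classical.Herm

variable {F : Type*} [Field F] [Fintype F] {q : ℕ}

/-- An isometry of determinant one gives an element of `PSU`; its trivial powers are the scalar powers. -/
theorem exists_psu_element (hF : Fintype.card F = q ^ 2) {n : ℕ} (hn : 3 ≤ n) {V : Type*} [AddCommGroup V]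
    [Module F V] [FiniteDimensional F V] {B : V →ₛₗ[powHom hF] V →ₗ[F] F} (hB : IsHerm B) (hV : finrank F V = n)
    (e : V ≃ₗ[F] V) (he : ∀ u v, B (e u) (e v) = B u v) (hdet : LinearMap.det (e : V →ₗ[F] V) = 1) :
    ∃ y : Cfsg.PSU n F q, ∀ k : ℕ, y ^ k = 1 ↔ ∃ a : F, ∀ v, (e ^ k) v = a • v := by
  obtain ⟨f, hf⟩ := hB.exists_isometry_of_finrank_eq (hermStd_isHerm (n := n) hF) (hV.trans finrank_std.symm)
  let g : HU (hermStd n hF) := ⟨f.symm.trans (e.trans f), fun u v => by
    obtain ⟨a, rfl⟩ := f.surjective u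
    obtain ⟨b, rfl⟩ := f.surjective v
    simp [hf, he]⟩
  have hg : g ∈ HSU (hermStd n hF) := by
    rw [MonoidHom.mem_ker]
    refine Units.ext ?_
    show ((LinearEquiv.det (f.symm.trans (e.trans f)) : Fˣ) : F) = 1
    rw [LinearEquiv.coe_det]
    exact (LinearMap.det_conj (e : V →ₗ[F] V) f).trans hdet
  refine ⟨QuotientGroup.mk ((suEquiv n hF).symm ⟨g, hg⟩), fun k => ?_⟩
  rw [← QuotientGroup.mk_pow, QuotientGroup.eq_one_iff, ← map_pow]
  have hc : ∀ x : HSU (hermStd n hF), (suEquiv n hF).symm x ∈ Subgroup.center (Cfsg.SU n F q) ↔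
      x ∈ Subgroup.center (HSU (hermStd n hF)) := by
    intro x
    rw [Subgroup.mem_center_iff, Subgroup.mem_center_iff]
    constructor
    · intro h y
      apply (suEquiv n hF).symm.injective
      rw [map_mul, map_mul, h]
    · intro h y
      apply (suEquiv n hF).injective
      simp [h (suEquiv n hF y)]
  rw [hc, (hermStd_isHerm hF).mem_center_HSU_iff (by rw [finrank_std]; exact hn)]
  have hpow : ∀ (k : ℕ) (v : V), (((⟨g, hg⟩ : HSU (hermStd n hF)) ^ k : HSU (hermStd n hF)) : HU (hermStd n hF)).1 (f v) =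
      f ((e ^ k) v) := by
    intro k
    induction k with
    | zero => intro v; rfl
    | succ k ih =>
      intro v
      rw [pow_succ, pow_succ, LinearEquiv.mul_apply, ← ih]
      show (((⟨g, hg⟩ : HSU (hermStd n hF)) ^ k : HSU (hermStd n hF)) : HU (hermStd n hF)).1 (g.1 (f v)) = _
      congr 1
      simp [g]
  refine exists_congr fun a => ⟨fun h v => f.injective ?_, fun h w => ?_⟩
  · rw [← hpow, h, map_smul]
  · obtain ⟨v, rfl⟩ := f.surjective w
    rw [hpow, h, map_smul]

/-- Moving an isometry of determinant one to the standard space. -/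
theorem exists_std (hF : Fintype.card F = q ^ 2) {m : ℕ} {V : Type*} [AddCommGroup V] [Module F V]
    [FiniteDimensional F V] {B : V →ₛₗ[powHom hF] V →ₗ[F] F} (hB : IsHerm B) (hV : finrank F V = m)
    (e : V ≃ₗ[F] V) (he : ∀ u v, B (e u) (e v) = B u v) (hdet : LinearMap.det (e : V →ₗ[F] V) = 1) :
    ∃ x : HSU (hermStd m hF), orderOf x = orderOf e := by
  obtain ⟨f, hf⟩ := hB.exists_isometry_of_finrank_eq (hermStd_isHerm (n := m) hF) (hV.trans finrank_std.symm)
  let ψ : (V ≃ₗ[F] V) →* ((Fin m → F) ≃ₗ[F] (Fin m → F)) :=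
    { toFun := fun e => f.symm.trans (e.trans f)
      map_one' := by ext v; simp
      map_mul' := fun g h => by ext v; simp }
  let g : HU (hermStd m hF) := ⟨ψ e, fun u v => by
    obtain ⟨a, rfl⟩ := f.surjective u
    obtain ⟨b, rfl⟩ := f.surjective v
    simp [ψ, hf, he]⟩
  have hg : g ∈ HSU (hermStd m hF) := by
    rw [MonoidHom.mem_ker]
    refine Units.ext ?_
    show ((LinearEquiv.det (f.symm.trans (e.trans f)) : Fˣ) : F) = 1
    rw [LinearEquiv.coe_det]
    exact (LinearMap.det_conj (e : V →ₗ[F] V) f).trans hdet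
  refine ⟨⟨g, hg⟩, ?_⟩
  rw [← Subgroup.orderOf_coe, ← Subgroup.orderOf_coe]
  refine orderOf_injective ψ (fun a b h => LinearEquiv.ext fun v => f.injective ?_) e
  simpa [ψ] using LinearEquiv.congr_fun h (f v)

section Torus

variable (K : Type*) [Field K] [Finite K] [Algebra F K]

/-- Multiplication by units. -/
noncomputable def mulHom : Kˣ →* (K ≃ₗ[F] K) where
  toFun a := (LinearEquiv.smulOfUnit (R := K) (M := K) a).restrictScalars F
  map_one' := LinearEquiv.ext fun v => one_mul v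
  map_mul' a b := LinearEquiv.ext fun v => mul_assoc _ _ v

omit [Fintype F] [Finite K] in
theorem mulHom_apply (a : Kˣ) (v : K) : mulHom (F := F) K a v = (a : K) * v := rfl

omit [Fintype F] [Finite K] in
theorem mulHom_injective : Function.Injective (mulHom (F := F) K) := fun a b h =>
  Units.ext (by simpa [mulHom_apply] using LinearEquiv.congr_fun h 1)

theorem exists_torus_aux (hF : Fintype.card F = q ^ 2) {D : ℕ} (hD : finrank F K = D) (hD1 : 1 ≤ D) :
    (Odd D → ∃ x : HSU (hermStd D hF), orderOf x = torusOrder q D) ∧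
      ∃ x : HSU (hermStd (2 * D) hF), orderOf x = torusOrder q (2 * D) := by
  classical
  have := Fintype.ofFinite K
  obtain ⟨p, e₀, hp', hc', hq⟩ := exists_prime_pow_root hF
  haveI := Fact.mk hp'
  haveI : CharP K p := charP_of_injective_algebraMap (algebraMap F K).injective p
  have hq2 := two_le_of_card_sq hF
  have hcardK : Nat.card K = q ^ (2 * D) := by
    rw [Module.natCard_eq_pow_finrank (K := F), hD, Nat.card_eq_fintype_card, hF, ← pow_mul]
  have hcyc : ∀ N, N ∣ q ^ (2 * D) - 1 → ∃ a : Kˣ, orderOf a = N := by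
    intro N hN
    obtain ⟨g, hg⟩ := IsCyclic.exists_ofOrder_eq_natCard (α := Kˣ)
    rw [Nat.card_units, hcardK] at hg
    exact ⟨g ^ (orderOf g / N), orderOf_pow_orderOf_div (orderOf_pos g).ne' (hg ▸ hN)⟩
  have hperiod : ∀ x : K, x ^ q ^ (2 * D) = x := fun x => by
    rw [← hcardK, Nat.card_eq_fintype_card, FiniteField.pow_card]
  have hadd : ∀ (j : ℕ) (x y : K), (x + y) ^ q ^ j = x ^ q ^ j + y ^ q ^ j := fun j x y => by
    rw [hq, ← pow_mul, add_pow_char_pow]
  have htrq : ∀ z : K, Algebra.trace F K (z ^ q) = (Algebra.trace F K z) ^ q := fun z => by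
    apply (algebraMap F K).injective
    rw [map_pow (algebraMap F K), FiniteField.algebraMap_trace_eq_sum_pow, FiniteField.algebraMap_trace_eq_sum_pow, hq,
      sum_pow_char_pow]
    exact Finset.sum_congr rfl fun i _ => by rw [← pow_mul, ← pow_mul, mul_comm]
  have htrg : ∀ (j : ℕ) (z : K), Algebra.trace F K (z ^ q ^ (2 * j)) = Algebra.trace F K z := fun j z => by
    conv_rhs => rw [← Algebra.trace_eq_of_algEquiv (FiniteField.frobeniusAlgEquivOfAlgebraic F K ^ j) z]
    rw [AlgEquiv.coe_pow, FiniteField.coe_frobeniusAlgEquivOfAlgebraic_iterate, hF, ← pow_mul]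
  have hnd : ∀ x : K, (∀ y, Algebra.trace F K (x * y) = 0) → x = 0 := fun x h =>
    (traceForm_nondegenerate F K).1 x fun y => (Algebra.traceForm_apply F x y).trans (h y)
  have hnorm : ∀ a : K, algebraMap F K (Algebra.norm F a) = a ^ ((q ^ (2 * D) - 1) / (q ^ 2 - 1)) := fun a => by
    rw [FiniteField.algebraMap_norm_eq_pow, hcardK, Nat.card_eq_fintype_card, hF]
  have hdetmul : ∀ a : Kˣ, LinearMap.det ((mulHom (F := F) K a : K ≃ₗ[F] K) : K →ₗ[F] K) = Algebra.norm F (a : K) :=
    fun a => by rw [Algebra.norm_apply]; exact congrArg LinearMap.det (LinearMap.ext fun v => rfl)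
  have hdiv : q ^ 2 - 1 ∣ q ^ (2 * D) - 1 := by rw [pow_mul]; exact Nat.sub_one_dvd_pow_sub_one _ D
  constructor
  · intro hodd
    have hE := mul_torusOrder_odd (q := q) hodd
    obtain ⟨a, ha⟩ := hcyc (torusOrder q D) ((Dvd.intro_left _ hE).trans ⟨q ^ D - 1, by
      rw [mul_comm 2 D, pow_mul, ← Nat.sq_sub_sq, one_pow]⟩)
    obtain ⟨j, hj⟩ := hodd
    have hσc : ∀ c : F, c ^ q ^ D = c ^ q := fun c => by
      rw [hj, pow_succ, pow_mul q 2 j, pow_mul, ← hF, FiniteField.pow_card_pow]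
    have htrD : ∀ z : K, Algebra.trace F K (z ^ q ^ D) = (Algebra.trace F K z) ^ q := fun z => by
      rw [hj, pow_succ', pow_mul, htrg j, htrq]
    let B : K →ₛₗ[powHom hF] K →ₗ[F] F := LinearMap.mk₂'ₛₗ (powHom hF) (RingHom.id F)
      (fun x y => Algebra.trace F K (x ^ q ^ D * y))
      (fun x x' y => by rw [hadd, add_mul, map_add])
      (fun c x y => by
        rw [Algebra.smul_def, mul_pow, ← map_pow (algebraMap F K), hσc, mul_assoc, ← Algebra.smul_def, map_smul, powHom_apply])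
      (fun x y y' => by rw [mul_add, map_add])
      (fun c x y => by rw [mul_smul_comm, map_smul]; rfl)
    have hB : IsHerm B :=
      { invol := powHom_isInvol hF
        symm := fun x y => by
          show (Algebra.trace F K (x ^ q ^ D * y)) ^ q = Algebra.trace F K (y ^ q ^ D * x)
          rw [← htrD, mul_pow, ← pow_mul, ← pow_add, ← two_mul, hperiod, mul_comm]
        nondeg := fun x hx => by
          have := hnd _ hx
          exact (pow_eq_zero_iff (pow_ne_zero _ (by omega))).1 this }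
    have ha1 : (a : K) ^ (q ^ D + 1) = 1 := by
      rw [← hE, ← Units.val_pow_eq_pow_val, mul_comm, pow_mul, ← ha, pow_orderOf_eq_one, one_pow, Units.val_one]
    obtain ⟨x, hx⟩ := exists_std hF hB hD (mulHom K a) (fun u v => by
        show Algebra.trace F K (((a : K) * u) ^ q ^ D * ((a : K) * v)) = Algebra.trace F K (u ^ q ^ D * v)
        rw [mul_pow, show (a : K) ^ q ^ D * u ^ q ^ D * ((a : K) * v) = (a : K) ^ (q ^ D + 1) * (u ^ q ^ D * v) by ring,
          ha1, one_mul]) (by
      rw [hdetmul]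
      apply (algebraMap F K).injective
      rw [hnorm, map_one]
      obtain ⟨X, hX⟩ : q - 1 ∣ q ^ D - 1 := Nat.sub_one_dvd_pow_sub_one q D
      have : (q ^ (2 * D) - 1) / (q ^ 2 - 1) = torusOrder q D * X := by
        refine Nat.div_eq_of_eq_mul_left (by have := Nat.pow_le_pow_left hq2 2; omega) ?_
        rw [mul_comm 2 D, pow_mul, ← one_pow 2, Nat.sq_sub_sq, ← hE, hX, Nat.sq_sub_sq]
        ring
      rw [this, pow_mul, ← Units.val_pow_eq_pow_val, ← ha, pow_orderOf_eq_one, Units.val_one, one_pow])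
    exact ⟨x, hx.trans ((orderOf_injective (mulHom K) (mulHom_injective K) a).trans ha)⟩
  · have hE := mul_torusOrder_even (q := q) (Nat.not_odd_iff_even.2 (even_two_mul D))
    obtain ⟨a, ha⟩ := hcyc (torusOrder q (2 * D)) (Dvd.intro_left _ hE)
    let τ : K ≃ₗ[F] K := mulHom K a
    have hτq : ∀ (x : K), x ^ q ^ 1 = x ^ q := fun x => by rw [pow_one]
    let B : (K × K) →ₛₗ[powHom hF] (K × K) →ₗ[F] F := LinearMap.mk₂'ₛₗ (powHom hF) (RingHom.id F)
      (fun x y => Algebra.trace F K (x.1 ^ q * y.2) + (Algebra.trace F K (y.1 ^ q * x.2)) ^ q)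
      (fun x x' y => by
        simp only [Prod.fst_add, Prod.snd_add]
        rw [← hτq (x.1 + x'.1), hadd, hτq, hτq, add_mul, mul_add, map_add, map_add, ← powHom_apply hF, map_add,
          powHom_apply, powHom_apply]
        ring)
      (fun c x y => by
        simp only [Prod.smul_fst, Prod.smul_snd]
        rw [Algebra.smul_def, mul_pow, ← map_pow (algebraMap F K), mul_assoc, ← Algebra.smul_def, map_smul, mul_smul_comm, map_smul,
          powHom_apply, smul_eq_mul, smul_eq_mul, smul_eq_mul, mul_pow]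
        ring)
      (fun x y y' => by
        simp only [Prod.fst_add, Prod.snd_add]
        rw [← hτq (y.1 + y'.1), hadd, hτq, hτq, add_mul, mul_add, map_add, map_add, ← powHom_apply hF, map_add,
          powHom_apply, powHom_apply]
        ring)
      (fun c x y => by
        simp only [Prod.smul_fst, Prod.smul_snd, RingHom.id_apply]
        have hc2 : (c ^ q) ^ q = c := by rw [← pow_mul, ← pow_two, ← hF, FiniteField.pow_card]
        rw [Algebra.smul_def c y.1, mul_pow (algebraMap F K c), ← map_pow (algebraMap F K), mul_assoc, ← Algebra.smul_def, map_smul,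
          mul_smul_comm, map_smul, smul_eq_mul, smul_eq_mul, smul_eq_mul, mul_pow, hc2]
        ring)
    have hB : IsHerm B :=
      { invol := powHom_isInvol hF
        symm := fun x y => by
          show (Algebra.trace F K (x.1 ^ q * y.2) + (Algebra.trace F K (y.1 ^ q * x.2)) ^ q) ^ q =
            Algebra.trace F K (y.1 ^ q * x.2) + (Algebra.trace F K (x.1 ^ q * y.2)) ^ q
          rw [← powHom_apply hF, map_add, powHom_apply, powHom_apply, ← pow_mul, ← pow_two, ← hF, FiniteField.pow_card]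
          ring
        nondeg := fun x hx => by
          have h1 : ∀ y, Algebra.trace F K (x.1 ^ q * y) = 0 := fun y => by
            have : Algebra.trace F K (x.1 ^ q * y) + (Algebra.trace F K ((0 : K) ^ q * x.2)) ^ q = 0 := hx (0, y)
            simpa [zero_pow (show q ≠ 0 by omega)] using this
          have h2 : ∀ y, Algebra.trace F K (x.2 * y ^ q) = 0 := fun y => by
            have : Algebra.trace F K (x.1 ^ q * 0) + (Algebra.trace F K (y ^ q * x.2)) ^ q = 0 := hx (y, 0)
            rw [mul_zero, map_zero, zero_add, mul_comm] at this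
            exact (pow_eq_zero_iff (by omega : q ≠ 0)).1 this
          refine Prod.ext ((pow_eq_zero_iff (by omega : q ≠ 0)).1 (hnd _ h1)) (hnd _ fun y => ?_)
          have hy := h2 (y ^ q ^ (2 * D - 1))
          rwa [← pow_mul, ← pow_succ, show 2 * D - 1 + 1 = 2 * D by omega, hperiod] at hy }
    let e : (K × K) ≃ₗ[F] (K × K) :=
      LinearEquiv.prodCongr (mulHom K a) (mulHom K (a ^ q)⁻¹)
    have haa : ((a ^ q)⁻¹ : Kˣ) * a ^ q = 1 := inv_mul_cancel _
    obtain ⟨x, hx⟩ := exists_std (V := K × K) (m := 2 * D) hF hB (by rw [Module.finrank_prod, hD, two_mul]) e (fun u v => by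
        have hC : ∀ u v : K, ((a : K) * u) ^ q * ((((a ^ q)⁻¹ : Kˣ) : K) * v) = u ^ q * v := fun u v => by
          rw [mul_pow, ← Units.val_pow_eq_pow_val, show (((a ^ q : Kˣ) : K)) * u ^ q * ((((a ^ q)⁻¹ : Kˣ) : K) * v) =
            ((((a ^ q)⁻¹ * a ^ q : Kˣ)) : K) * (u ^ q * v) by push_cast; ring, haa, Units.val_one, one_mul]
        show Algebra.trace F K (((a : K) * u.1) ^ q * ((((a ^ q)⁻¹ : Kˣ) : K) * v.2)) +
            (Algebra.trace F K (((a : K) * v.1) ^ q * ((((a ^ q)⁻¹ : Kˣ) : K) * u.2))) ^ q =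
          Algebra.trace F K (u.1 ^ q * v.2) + (Algebra.trace F K (v.1 ^ q * u.2)) ^ q
        rw [hC, hC]) (by
      show LinearMap.det (LinearMap.prodMap ((mulHom (F := F) K a : K ≃ₗ[F] K) : K →ₗ[F] K)
        ((mulHom (F := F) K (a ^ q)⁻¹ : K ≃ₗ[F] K) : K →ₗ[F] K)) = 1
      rw [LinearMap.det_prodMap, hdetmul, hdetmul]
      apply (algebraMap F K).injective
      rw [map_mul, hnorm, hnorm, map_one, ← mul_pow, ← Units.val_mul, ← Units.val_pow_eq_pow_val]
      set X := (q ^ (2 * D) - 1) / (q ^ 2 - 1) with hX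
      have hXE : (q - 1) * X = torusOrder q (2 * D) := by
        have e1 := Nat.mul_div_cancel' hdiv
        rw [← hX, ← hE, show q ^ 2 - 1 = (q + 1) * (q - 1) by rw [← Nat.sq_sub_sq, one_pow], mul_assoc] at e1
        exact Nat.eq_of_mul_eq_mul_left (by omega) e1
      obtain ⟨q', rfl⟩ : ∃ q', q = q' + 1 := ⟨q - 1, by omega⟩
      rw [Nat.add_sub_cancel] at hXE
      rw [show a * (a ^ (q' + 1))⁻¹ = (a ^ q')⁻¹ by rw [pow_succ', mul_inv, mul_inv_cancel_left],
        inv_pow, ← pow_mul, hXE, ← ha, pow_orderOf_eq_one, inv_one, Units.val_one])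
    refine ⟨x, hx.trans ?_⟩
    rw [← ha]
    refine Nat.dvd_antisymm (orderOf_dvd_of_pow_eq_one ?_) (orderOf_dvd_of_pow_eq_one ?_)
    · have hpow : ∀ k : ℕ, e ^ k = LinearEquiv.prodCongr (mulHom K (a ^ k)) (mulHom K ((a ^ q)⁻¹ ^ k)) := by
        intro k
        induction k with
        | zero => rw [pow_zero, pow_zero, pow_zero, map_one]; rfl
        | succ k ih => rw [pow_succ, ih, pow_succ, pow_succ, map_mul (mulHom K), map_mul (mulHom K)]; rfl
      rw [hpow, pow_orderOf_eq_one, inv_pow, ← pow_mul, mul_comm q, pow_mul, pow_orderOf_eq_one, one_pow, inv_one, map_one]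
      rfl
    · have hpow : ∀ (k : ℕ) (v : K), ((e ^ k) (v, 0)).1 = ((a ^ k : Kˣ) : K) * v ∧ ((e ^ k) (v, 0)).2 = 0 := by
        intro k
        induction k with
        | zero => intro v; simp
        | succ k ih =>
          intro v
          rw [pow_succ, LinearEquiv.mul_apply, show e (v, 0) = ((a : K) * v, 0) by simp [e, mulHom_apply],
            (ih _).1, (ih _).2, pow_succ, Units.val_mul, mul_assoc]
          exact ⟨rfl, rfl⟩
      refine Units.ext ?_
      have := (hpow (orderOf e) 1).1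
      rw [pow_orderOf_eq_one, mul_one] at this
      exact this.symm

end Torus

/-- Tori with one block. -/
theorem exists_torus (hF : Fintype.card F = q ^ 2) {m : ℕ} (hm : 1 ≤ m) :
    ∃ x : HSU (hermStd m hF), orderOf x = torusOrder q m := by
  obtain ⟨p, e₀, hp, hc, -⟩ := exists_prime_pow_root hF
  have : Fact p.Prime := ⟨hp⟩
  rcases Nat.even_or_odd' m with ⟨D, rfl | rfl⟩
  · have : NeZero D := ⟨by omega⟩
    exact (exists_torus_aux (FiniteField.Extension F p D) hF (FiniteField.finrank_extension F p D) (by omega)).2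
  · exact (exists_torus_aux (FiniteField.Extension F p (2 * D + 1)) hF
      (FiniteField.finrank_extension F p _) (by omega)).1 ⟨D, rfl⟩

/-- A unipotent element with one block. -/
theorem exists_unipotent (hF : Fintype.card F = q ^ 2) {p : ℕ} [Fact p.Prime] [CharP F p] {b : ℕ} (hb : 1 ≤ b) :
    ∃ u : HSU (hermStd b hF), (∃ j, orderOf u = p ^ j) ∧ (∃ w, w ≠ 0 ∧ (u : HU (hermStd b hF)).1 w = w) ∧
      ∀ t : ℕ, p ^ t < b → p ^ (t + 1) ∣ orderOf u := by
  obtain ⟨g, hg⟩ := ClassTheory.exists_regular_unipotent (F := F) b hb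
  obtain ⟨U, c, hc⟩ := ClassTheory.exists_gu_of_unipotent hF g ⟨b, (ClassTheory.regular_of_rank hg).1⟩
  set M := ((U : GL (Fin b) F) : Matrix (Fin b) (Fin b) F)
  have hM : ∀ k, ((M - 1) ^ k).rank = Known.Jordan.prof ({b} : Multiset ℕ) k := fun k => by
    rw [← hg k]
    exact (ClassTheory.rank_of_isConj (MonoidHom.map_isConj (Units.coeHom _) ⟨c, hc⟩) k).symm
  have hnil := (ClassTheory.regular_of_rank hM).1
  have : Nonempty (Fin b) := ⟨⟨0, hb⟩⟩
  haveI : CharP (Matrix (Fin b) (Fin b) F) p := charP_of_injective_algebraMap (algebraMap F _).injective p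
  have hdet : M.det = 1 := ClassTheory.det_of_isNilpotent_sub_one ⟨b, hnil⟩
  have hmem : guEquiv b hF U ∈ HSU (hermStd b hF) := by
    rw [MonoidHom.mem_ker]
    exact Units.ext ((guEquiv_det hF U).trans hdet)
  refine ⟨⟨_, hmem⟩, ?_⟩
  have hord : orderOf (⟨_, hmem⟩ : HSU (hermStd b hF)) = orderOf M := by
    rw [Subgroup.orderOf_mk, MulEquiv.orderOf_eq, ← Subgroup.orderOf_coe, ← orderOf_units]
  rw [hord]
  have hpow : ∀ t : ℕ, M ^ p ^ t = 1 ↔ (M - 1) ^ p ^ t = 0 := fun t => by
    rw [sub_pow_char_pow_of_commute p t (Commute.one_right _), one_pow, sub_eq_zero]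
  obtain ⟨j, -, hjo⟩ := (Nat.dvd_prime_pow (Fact.out : p.Prime)).1
    (orderOf_dvd_of_pow_eq_one ((hpow b).2 (pow_eq_zero_of_le (Nat.lt_pow_self (Fact.out : p.Prime).one_lt).le hnil)))
  refine ⟨⟨j, hjo⟩, ?_, fun t ht => ?_⟩
  · have h0 : (M - 1).det = 0 := (pow_eq_zero_iff (n := b) (by omega)).1 (by rw [← Matrix.det_pow, hnil, Matrix.det_zero])
    obtain ⟨w, hw0, hw⟩ := Matrix.exists_mulVec_eq_zero_iff.2 h0
    refine ⟨w, hw0, ?_⟩
    rw [Matrix.sub_mulVec, Matrix.one_mulVec, sub_eq_zero] at hw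
    show (guEquiv b hF U : (Fin b → F) ≃ₗ[F] (Fin b → F)) w = w
    rw [guEquiv_apply]
    exact hw
  rw [hjo]
  refine pow_dvd_pow p ?_
  by_contra hlt
  have h1 := (hpow t).1 (orderOf_dvd_iff_pow_eq_one.1 (hjo ▸ pow_dvd_pow p (by omega : j ≤ t)))
  have h2 := hM (p ^ t)
  rw [h1, Matrix.rank_zero] at h2
  simp [Known.Jordan.prof] at h2
  omega

/-- Two blocks with scalars of order `r`. -/
theorem exists_block (hF : Fintype.card F = q ^ 2) {r : ℕ} (hr : r.Prime) (hrq : r ∣ q + 1) {a b : ℕ}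
    (hab : 3 ≤ a + b) (ha : 1 ≤ a) (hb : 1 ≤ b) (hrab : ¬ r ∣ a + b) (T : HSU (hermStd a hF))
    (U : HSU (hermStd b hF)) (hT : ¬ r ∣ orderOf T) (hU : ¬ r ∣ orderOf U) (hfix : ∃ w, w ≠ 0 ∧ (U : HU (hermStd b hF)).1 w = w) :
    ∃ y : Cfsg.PSU (a + b) F q, orderOf T ∣ orderOf y ∧ orderOf U ∣ orderOf y ∧ r ∣ orderOf y := by
  classical
  -- two scalars
  obtain ⟨ω, hω⟩ : ∃ ω : Fˣ, orderOf ω = r := by
    obtain ⟨g, hg⟩ := IsCyclic.exists_ofOrder_eq_natCard (α := Fˣ)
    have hd : r ∣ orderOf g := by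
      rw [hg, card_units_of_card_sq hF]
      exact hrq.mul_right _
    exact ⟨g ^ (orderOf g / r), orderOf_pow_orderOf_div (orderOf_pos g).ne' hd⟩
  have := Fact.mk hr
  obtain ⟨i, j, hij, hdetij⟩ : ∃ i j : ℕ, ¬ (i : ZMod r) = j ∧ r ∣ i * a + j * b := by
    by_cases hbr : (b : ZMod r) = 0
    · exact ⟨0, 1, by simp, by simpa using (ZMod.natCast_eq_zero_iff _ _).1 hbr⟩
    · refine ⟨1, (-(a : ZMod r) / b).val, ?_, ?_⟩
      · rw [ZMod.natCast_zmod_val, Nat.cast_one, eq_div_iff hbr, one_mul, eq_neg_iff_add_eq_zero, ← Nat.cast_add,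
          ZMod.natCast_eq_zero_iff, add_comm]
        exact hrab
      · rw [← ZMod.natCast_eq_zero_iff]
        push_cast
        rw [ZMod.natCast_zmod_val, div_mul_cancel₀ _ hbr, one_mul, add_neg_cancel]
  set c₁ : Fˣ := ω ^ i
  set c₂ : Fˣ := ω ^ j
  have hnorm : ∀ c : Fˣ, c ^ r = 1 → (c : F) ^ q * (c : F) = 1 := fun c hc => by
    obtain ⟨s, hs⟩ := hrq
    rw [← pow_succ, hs, pow_mul, ← Units.val_pow_eq_pow_val, hc, Units.val_one, one_pow]
  have hω1 : ω ^ r = 1 := hω ▸ pow_orderOf_eq_one ω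
  have hc₁ : c₁ ^ r = 1 := by rw [← pow_mul, mul_comm, pow_mul, hω1, one_pow]
  have hc₂ : c₂ ^ r = 1 := by rw [← pow_mul, mul_comm, pow_mul, hω1, one_pow]
  let B₁ := hermStd a hF
  let B₂ := hermStd b hF
  let B : ((Fin a → F) × (Fin b → F)) →ₛₗ[powHom hF] ((Fin a → F) × (Fin b → F)) →ₗ[F] F :=
    LinearMap.mk₂'ₛₗ (powHom hF) (RingHom.id F) (fun x y => B₁ x.1 y.1 + B₂ x.2 y.2)
      (fun x x' y => by simp only [Prod.fst_add, Prod.snd_add, add_left]; ring)
      (fun c x y => by simp only [Prod.smul_fst, Prod.smul_snd, smul_left, smul_eq_mul]; ring)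
      (fun x y y' => by simp only [Prod.fst_add, Prod.snd_add, map_add]; ring)
      (fun c x y => by simp only [Prod.smul_fst, Prod.smul_snd, smul_right, RingHom.id_apply, smul_eq_mul]; ring)
  have hB : IsHerm B :=
    { invol := powHom_isInvol hF
      symm := fun x y => by
        show powHom hF (B₁ x.1 y.1 + B₂ x.2 y.2) = B₁ y.1 x.1 + B₂ y.2 x.2
        rw [map_add, (hermStd_isHerm hF).symm, (hermStd_isHerm hF).symm]
      nondeg := fun x hx => Prod.ext
        ((hermStd_isHerm hF).nondeg _ fun v => by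
          have h : B₁ x.1 v + B₂ x.2 0 = 0 := hx (v, 0)
          rwa [map_zero, add_zero] at h)
        ((hermStd_isHerm hF).nondeg _ fun v => by
          have h : B₁ x.1 0 + B₂ x.2 v = 0 := hx (0, v)
          rwa [map_zero, zero_add] at h) }
  set T₁ : (Fin a → F) ≃ₗ[F] (Fin a → F) := (T : HU (hermStd a hF)).1 with hT₁
  set U₁ : (Fin b → F) ≃ₗ[F] (Fin b → F) := (U : HU (hermStd b hF)).1 with hU₁
  let e : ((Fin a → F) × (Fin b → F)) ≃ₗ[F] ((Fin a → F) × (Fin b → F)) :=
    LinearEquiv.prodCongr (T₁.trans (LinearEquiv.smulOfUnit c₁)) (U₁.trans (LinearEquiv.smulOfUnit c₂))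
  have hdT : LinearMap.det (T₁ : (Fin a → F) →ₗ[F] (Fin a → F)) = 1 := by
    rw [← LinearEquiv.coe_det]; exact congrArg Units.val T.2
  have hdU : LinearMap.det (U₁ : (Fin b → F) →ₗ[F] (Fin b → F)) = 1 := by
    rw [← LinearEquiv.coe_det]; exact congrArg Units.val U.2
  obtain ⟨y, hy⟩ := exists_psu_element (n := a + b) hF hab hB
    (by rw [Module.finrank_prod, finrank_std, finrank_std]) e (fun u v => by
      show B₁ ((c₁ : F) • T₁ u.1) ((c₁ : F) • T₁ v.1) + B₂ ((c₂ : F) • U₁ u.2) ((c₂ : F) • U₁ v.2) =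
        B₁ u.1 v.1 + B₂ u.2 v.2
      rw [smul_left, smul_right, smul_left, smul_right, powHom_apply, powHom_apply, ← mul_assoc, ← mul_assoc,
        hnorm _ hc₁, hnorm _ hc₂, one_mul, one_mul]
      exact congrArg₂ (· + ·) ((T : HU (hermStd a hF)).2 _ _) ((U : HU (hermStd b hF)).2 _ _))
    (by
      show LinearMap.det (LinearMap.prodMap ((c₁ : F) • (T₁ : (Fin a → F) →ₗ[F] (Fin a → F)))
        ((c₂ : F) • (U₁ : (Fin b → F) →ₗ[F] (Fin b → F)))) = 1
      rw [LinearMap.det_prodMap, LinearMap.det_smul, LinearMap.det_smul, finrank_std, finrank_std, hdT, hdU, mul_one,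
        mul_one, ← Units.val_pow_eq_pow_val, ← Units.val_pow_eq_pow_val, ← Units.val_mul, ← pow_mul, ← pow_mul,
        ← pow_add, orderOf_dvd_iff_pow_eq_one.1 (hω ▸ hdetij), Units.val_one])
  refine ⟨y, ?_⟩
  set k := orderOf y
  obtain ⟨c, hc⟩ := (hy k).1 (pow_orderOf_eq_one y)
  have hek : ∀ (k : ℕ) (u : Fin a → F) (v : Fin b → F),
      (e ^ k) (u, v) = ((c₁ : F) ^ k • (T₁ ^ k) u, (c₂ : F) ^ k • (U₁ ^ k) v) := by
    intro k
    induction k with
    | zero => intro u v; simp
    | succ k ih =>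
      intro u v
      rw [pow_succ e, LinearEquiv.mul_apply,
        show e (u, v) = ((c₁ : F) • T₁ u, (c₂ : F) • U₁ v) from rfl, ih, map_smul, map_smul, smul_smul, smul_smul,
        ← pow_succ, ← pow_succ, pow_succ T₁, pow_succ U₁]
      rfl
  obtain ⟨w, hw0, hw⟩ := hfix
  have hwk : ∀ k : ℕ, (U₁ ^ k) w = w := by
    intro k
    induction k with
    | zero => rfl
    | succ k ih => rw [pow_succ, LinearEquiv.mul_apply, hw, ih]
  have hc2 : c = (c₂ : F) ^ k := by
    have h := congrArg Prod.snd (hc (0, w))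
    rw [hek] at h
    exact smul_left_injective F hw0 (by simpa [hwk] using h.symm)
  have hUk : U ^ k = 1 := by
    refine Subtype.ext (Subtype.ext (LinearEquiv.ext fun v => ?_))
    have h := congrArg Prod.snd (hc (0, v))
    rw [hek, hc2] at h
    exact smul_right_injective (Fin b → F) (show (c₂ : F) ^ k ≠ 0 from pow_ne_zero _ c₂.ne_zero) (by simpa [hU₁] using h)
  set lam : F := (c₂ : F) ^ k / (c₁ : F) ^ k with hlam
  have hTk : ∀ v, (T₁ ^ k) v = lam • v := fun v => by
    have h := congrArg Prod.fst (hc (v, 0))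
    rw [hek, hc2] at h
    rw [hlam, div_eq_inv_mul, ← smul_smul, eq_inv_smul_iff₀ (pow_ne_zero _ c₁.ne_zero)]
    exact h
  have hlamr : lam ^ r = 1 := by
    rw [hlam, div_pow, ← pow_mul, ← pow_mul, mul_comm k r, pow_mul, pow_mul, show (c₂ : F) ^ r = 1 by rw [← Units.val_pow_eq_pow_val, hc₂, Units.val_one],
      show (c₁ : F) ^ r = 1 by rw [← Units.val_pow_eq_pow_val, hc₁, Units.val_one], one_pow, div_one]
  have : Nontrivial (Fin a → F) := by
    have : Nonempty (Fin a) := ⟨⟨0, ha⟩⟩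
    infer_instance
  have hlam1 : lam = 1 := by
    obtain ⟨v, hv⟩ := exists_ne (0 : Fin a → F)
    have hTo : ∀ l : ℕ, (T₁ ^ (k * l)) v = lam ^ l • v := by
      intro l
      induction l with
      | zero => simp
      | succ l ih => rw [mul_add, mul_one, pow_add, LinearEquiv.mul_apply, hTk, map_smul, ih, smul_smul, ← pow_succ']
    have h1 : T₁ ^ (k * orderOf T) = 1 := by
      have h := congrArg (fun t : HSU (hermStd a hF) => (t : HU (hermStd a hF)).1)
        (show T ^ (k * orderOf T) = 1 by rw [mul_comm, pow_mul, pow_orderOf_eq_one, one_pow])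
      simpa [hT₁] using h
    have h2 := hTo (orderOf T)
    rw [h1, LinearEquiv.coe_one, id_eq] at h2
    have h3 : lam ^ orderOf T = 1 := smul_left_injective F hv (show lam ^ orderOf T • v = (1 : F) • v by rw [one_smul, ← h2])
    exact orderOf_eq_one_iff.1 (Nat.eq_one_of_dvd_coprimes (hr.coprime_iff_not_dvd.2 hT)
      (orderOf_dvd_of_pow_eq_one hlamr) (orderOf_dvd_of_pow_eq_one h3))
  refine ⟨orderOf_dvd_of_pow_eq_one ?_, orderOf_dvd_of_pow_eq_one hUk, ?_⟩
  · refine Subtype.ext (Subtype.ext (LinearEquiv.ext fun v => ?_))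
    have := hTk v
    rw [hlam1, one_smul] at this
    simpa [hT₁] using this
  · by_contra hrk
    refine hij ?_
    have h1 : ω ^ (j * k) = ω ^ (i * k) := by
      apply Units.ext
      have h := hlam ▸ hlam1
      rw [div_eq_one_iff_eq (pow_ne_zero _ c₁.ne_zero)] at h
      rw [pow_mul, pow_mul, Units.val_pow_eq_pow_val, Units.val_pow_eq_pow_val]
      exact h
    rw [pow_eq_pow_iff_modEq, hω, ← ZMod.natCast_eq_natCast_iff, Nat.cast_mul, Nat.cast_mul] at h1
    exact (mul_right_cancel₀ (fun h => hrk ((ZMod.natCast_eq_zero_iff _ _).1 h)) h1).symm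

end CfsgLib.HallGen.UnitarySpectrum
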