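import Cfsg.Agent.Lib.HallGen.UnitarySpectrum.Elements

/-!
# The spectra of powers of `PSU`
-/

set_option autoImplicit false

namespace CfsgLib.HallGen.UnitarySpectrum

open Module CfsgLib.Classical CfsgLib.Classical.Herm

variable {F : Type*} [Field F] [Fintype F] {q n : ℕ}

/-- The linear action of the special unitary group. -/
noncomputable def endHom (hF : Fintype.card F = q ^ 2) :
    Cfsg.SU n F q →* Module.End F (Fin n → F) where
  toFun g := (((suEquiv n hF g : HSU (hermStd n hF)) : HU (hermStd n hF)).1).toLinearMap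
  map_one' := by rw [map_one]; rfl
  map_mul' g h := by rw [map_mul]; rfl

theorem endHom_injective (hF : Fintype.card F = q ^ 2) : Function.Injective (endHom (n := n) hF) := fun g h e =>
  (suEquiv n hF).injective (Subtype.ext (Subtype.ext (LinearEquiv.toLinearMap_injective e)))

theorem orderOf_dvd_mul_gcd (hF : Fintype.card F = q ^ 2) (hn : 3 ≤ n) (g : Cfsg.SU n F q) :
    orderOf g ∣ Nat.gcd n (q + 1) * orderOf (QuotientGroup.mk g : Cfsg.PSU n F q) := by
  refine orderOf_dvd_of_pow_eq_one ?_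
  rw [mul_comm, pow_mul, ← card_center_SU hF n hn]
  have hc : g ^ orderOf (QuotientGroup.mk g : Cfsg.PSU n F q) ∈ Subgroup.center _ :=
    (QuotientGroup.eq_one_iff _).1 (by rw [QuotientGroup.mk_pow]; exact pow_orderOf_eq_one _)
  exact congrArg Subtype.val (pow_card_eq_one' (x := (⟨_, hc⟩ : Subgroup.center (Cfsg.SU n F q))))

theorem mem_center_of_scalar (hF : Fintype.card F = q ^ 2) (hn : 3 ≤ n) (g : Cfsg.SU n F q) (a : F)
    (ha : ∀ v, endHom hF g v = a • v) : g ∈ Subgroup.center (Cfsg.SU n F q) := by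
  have h1 : suEquiv n hF g ∈ Subgroup.center _ :=
    ((hermStd_isHerm hF).mem_center_HSU_iff (by rw [finrank_std]; exact hn)).2 ⟨a, ha⟩
  rw [Subgroup.mem_center_iff] at h1 ⊢
  intro y
  apply (suEquiv n hF).injective
  rw [map_mul, map_mul, h1]

variable (F q n) in
/-- Some element of `PSU` has order divisible by `k`. -/
def Spec (k : ℕ) : Prop := ∃ x : Cfsg.PSU n F q, k ∣ orderOf x

variable {p : ℕ} [Fact p.Prime] [CharP F p]

theorem ne_char_of_dvd (hF : Fintype.card F = q ^ 2) {r : ℕ} (hrq : r ∣ q + 1) : r ≠ p := by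
  obtain ⟨p', e, hp', hc, hq⟩ := exists_prime_pow_root hF
  obtain rfl : p' = p := CharP.eq F hc ‹CharP F p›
  rintro rfl
  have he : e ≠ 0 := by
    rintro rfl
    rw [pow_zero] at hq
    have := two_le_of_card_sq hF
    omega
  exact hp'.ne_one (Nat.dvd_one.1 ((Nat.dvd_add_right (hq ▸ dvd_pow_self r he)).1 hrq))

/-- Scalars of order `r` on two summands. -/
theorem exists_two_scalars (hF : Fintype.card F = q ^ 2) {r : ℕ} [Fact r.Prime] (hrq : r ∣ q + 1) {a b : ℕ}
    (hrab : ¬ r ∣ a + b) :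
    ∃ c₁ c₂ : Fˣ, c₁ ^ r = 1 ∧ c₂ ^ r = 1 ∧ (c₁ : F) ^ q * (c₁ : F) = 1 ∧ (c₂ : F) ^ q * (c₂ : F) = 1 ∧
      (c₁ : F) ^ a * (c₂ : F) ^ b = 1 ∧ ∀ k, c₁ ^ k = c₂ ^ k → r ∣ k := by
  have hr : r.Prime := Fact.out
  obtain ⟨ω, hω⟩ : ∃ ω : Fˣ, orderOf ω = r := by
    obtain ⟨g, hg⟩ := IsCyclic.exists_ofOrder_eq_natCard (α := Fˣ)
    have hd : r ∣ orderOf g := by
      rw [hg, card_units_of_card_sq hF]
      exact hrq.mul_right _
    exact ⟨g ^ (orderOf g / r), orderOf_pow_orderOf_div (orderOf_pos g).ne' hd⟩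
  obtain ⟨i, j, hij, hdet⟩ : ∃ i j : ℕ, ¬ (i : ZMod r) = j ∧ r ∣ i * a + j * b := by
    by_cases hbr : (b : ZMod r) = 0
    · exact ⟨0, 1, by simp, by simpa using (ZMod.natCast_eq_zero_iff _ _).1 hbr⟩
    · refine ⟨1, (-(a : ZMod r) / b).val, ?_, ?_⟩
      · rw [ZMod.natCast_zmod_val, Nat.cast_one, eq_div_iff hbr, one_mul, eq_neg_iff_add_eq_zero, ← Nat.cast_add,
          ZMod.natCast_eq_zero_iff, add_comm]
        exact hrab
      · rw [← ZMod.natCast_eq_zero_iff]
        push_cast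
        rw [ZMod.natCast_zmod_val, div_mul_cancel₀ _ hbr, one_mul, add_neg_cancel]
  have hω1 : ω ^ r = 1 := hω ▸ pow_orderOf_eq_one ω
  have hpow : ∀ i : ℕ, (ω ^ i) ^ r = 1 := fun i => by rw [← pow_mul, mul_comm, pow_mul, hω1, one_pow]
  have hnorm : ∀ c : Fˣ, c ^ r = 1 → (c : F) ^ q * (c : F) = 1 := fun c hc => by
    obtain ⟨s, hs⟩ := hrq
    rw [← pow_succ, hs, pow_mul, ← Units.val_pow_eq_pow_val, hc, Units.val_one, one_pow]
  refine ⟨ω ^ i, ω ^ j, hpow i, hpow j, hnorm _ (hpow i), hnorm _ (hpow j), ?_, fun k hk => ?_⟩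
  · rw [← Units.val_pow_eq_pow_val, ← Units.val_pow_eq_pow_val, ← Units.val_mul, ← pow_mul, ← pow_mul, ← pow_add,
      orderOf_dvd_iff_pow_eq_one.1 (hω ▸ hdet), Units.val_one]
  · rw [← pow_mul, ← pow_mul, pow_eq_pow_iff_modEq, hω, ← ZMod.natCast_eq_natCast_iff, Nat.cast_mul, Nat.cast_mul] at hk
    by_contra hrk
    exact hij (mul_right_cancel₀ (fun h => hrk ((ZMod.natCast_eq_zero_iff _ _).1 h)) hk)

theorem spec_block (hF : Fintype.card F = q ^ 2) {r : ℕ} (hr : r.Prime) (hrq : r ∣ q + 1) {m b : ℕ}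
    (hmb : 3 ≤ m + b) (hrn : ¬ r ∣ m + b) (hm : 1 ≤ m) (hb : 1 ≤ b) {M t : ℕ} (hrM : ¬ r ∣ M) (hMp : M.Coprime p)
    (hME : M ∣ torusOrder q m) (ht : t = 0 ∨ p ^ (t - 1) < b) :
    Spec F q (m + b) (r * M * p ^ t) := by
  have hp : p.Prime := Fact.out
  have hrp := ne_char_of_dvd (p := p) hF hrq
  obtain ⟨x, hx⟩ := exists_torus hF hm
  obtain ⟨u, ⟨j, hj⟩, hfix, hu⟩ := exists_unipotent (p := p) hF hb
  have : Finite ((Fin m → F) ≃ₗ[F] (Fin m → F)) := Finite.of_injective _ DFunLike.coe_injective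
  obtain ⟨v, w, hw, ho⟩ := Nat.exists_eq_pow_mul_and_not_dvd (orderOf_pos x).ne' r hr.ne_one
  have hxT : orderOf (x ^ r ^ v) = w := by
    rw [orderOf_pow, ho, Nat.gcd_mul_right_left, Nat.mul_div_cancel_left _ (pow_pos hr.pos _)]
  obtain ⟨y, hy1, hy2, hy3⟩ := exists_block hF hr hrq hmb hm hb hrn (x ^ r ^ v) u (hxT.symm ▸ hw)
    (fun h => hrp ((Nat.prime_dvd_prime_iff_eq hr hp).1 (hr.dvd_of_dvd_pow (hj ▸ h)))) hfix
  refine ⟨y, Nat.Coprime.mul_dvd_of_dvd_of_dvd ?_ (Nat.Coprime.mul_dvd_of_dvd_of_dvd ?_ hy3 ?_) ?_⟩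
  · exact ((Nat.Coprime.mul_left ((Nat.coprime_primes hr hp).2 hrp) hMp)).pow_right t
  · exact hr.coprime_iff_not_dvd.2 hrM
  · refine (Nat.Coprime.dvd_of_dvd_mul_left ?_ (hME.trans (hx.symm.trans ho).dvd)).trans (hxT.symm.dvd.trans hy1)
    exact ((hr.coprime_iff_not_dvd.2 hrM).pow_left v).symm
  · rcases Nat.eq_zero_or_pos t with rfl | h0
    · simp
    · have := hu (t - 1) (ht.resolve_left (by omega))
      rw [Nat.sub_add_cancel h0] at this
      exact this.trans hy2

theorem exists_torus_psu (hF : Fintype.card F = q ^ 2) (hn : 3 ≤ n) :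
    Spec F q n (torusOrder q n / Nat.gcd n (q + 1)) := by
  obtain ⟨x, hx⟩ := exists_torus hF (show 1 ≤ n by omega)
  refine ⟨QuotientGroup.mk ((suEquiv n hF).symm x), ?_⟩
  have h := orderOf_dvd_mul_gcd hF hn ((suEquiv n hF).symm x)
  rw [MulEquiv.orderOf_eq, hx] at h
  exact (Nat.div_dvd_iff_dvd_mul (gcd_dvd_torusOrder q n (by have := two_le_of_card_sq hF; omega))
    (Nat.gcd_pos_of_pos_right _ (Nat.succ_pos q))).2 h

theorem odd_element_cases (hF : Fintype.card F = q ^ 2) (hn : 3 ≤ n) {r : ℕ} (hr : r.Prime) (hrq : r ∣ q + 1)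
    (hrn : ¬ r ∣ n) (g : Cfsg.PSU n F q) (hg : ¬ r ∣ orderOf g) :
    Spec F q n (r * orderOf g) ∨ ∃ M t, orderOf g = M * p ^ t ∧ M ∣ torusOrder q n / Nat.gcd n (q + 1) ∧
      (t = 0 ∨ p ^ (t - 1) < n) ∧ Spec F q n (p ^ t) := by
  classical
  have hp : p.Prime := Fact.out
  have := Fact.mk hr
  have hq2 := two_le_of_card_sq hF
  obtain ⟨x, rfl⟩ := QuotientGroup.mk_surjective g
  set o := orderOf (QuotientGroup.mk x : Cfsg.PSU n F q) with ho
  set z := Nat.gcd n (q + 1) with hz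
  have hxz := orderOf_dvd_mul_gcd hF hn x
  have hrx : ¬ r ∣ orderOf x := fun h =>
    (hr.dvd_mul.1 (h.trans hxz)).elim (fun h => hrn (h.trans (Nat.gcd_dvd_left _ _))) hg
  obtain ⟨t, M, hMp, hox⟩ := Nat.exists_eq_pow_mul_and_not_dvd (orderOf_pos x).ne' p hp.ne_one
  have hMcop : M.Coprime p := (hp.coprime_iff_not_dvd.2 hMp).symm
  have hM0 : 0 < M := Nat.pos_of_ne_zero fun h => hMp (h ▸ dvd_zero p)
  set s := x ^ p ^ t with hsdef
  set u := x ^ M with hudef
  have hs : orderOf s = M := by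
    rw [hsdef, orderOf_pow, hox, Nat.gcd_mul_right_left, Nat.mul_div_cancel_left _ (pow_pos hp.pos _)]
  have hu : orderOf u = p ^ t := by
    rw [hudef, orderOf_pow, hox, Nat.gcd_mul_left_left, Nat.mul_div_cancel _ hM0]
  have hπu : p ^ t ∣ o := by
    have h := orderOf_dvd_mul_gcd hF hn u
    rw [hu] at h
    have hpz : ¬ p ∣ z := fun h => ne_char_of_dvd (p := p) hF (h.trans (Nat.gcd_dvd_right _ _)) rfl
    refine (((hp.coprime_iff_not_dvd.2 hpz).pow_left t).dvd_of_dvd_mul_left h).trans ?_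
    rw [hudef, QuotientGroup.mk_pow]
    exact orderOf_pow_dvd M
  set Mb := orderOf (QuotientGroup.mk s : Cfsg.PSU n F q) with hMb
  have hoM : o = Mb * p ^ t := by
    rw [hMb, hsdef, QuotientGroup.mk_pow, orderOf_pow, ← ho, Nat.gcd_eq_right hπu, Nat.div_mul_cancel hπu]
  have hMbM : Mb ∣ M := hs ▸ orderOf_map_dvd (QuotientGroup.mk' _) s
  have hinj := endHom_injective (n := n) hF
  set S := endHom hF s with hS
  set N := endHom hF u - 1 with hN
  have : Nonempty (Fin n) := ⟨⟨0, by omega⟩⟩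
  haveI : CharP (Module.End F (Fin n → F)) p :=
    charP_of_injective_algebraMap (algebraMap F _).injective p
  have hkey : ∀ i, N ^ p ^ i = endHom hF (u ^ p ^ i) - 1 := fun i => by
    rw [hN, sub_pow_char_pow_of_commute p i (Commute.one_right _), one_pow, ← map_pow]
  have hnil : IsNilpotent N := ⟨p ^ t, by rw [hkey, ← hu, pow_orderOf_eq_one, map_one, sub_self]⟩
  have hbd : t = 0 ∨ ∀ k, N ^ k = 0 → p ^ (t - 1) < k := by
    refine (Nat.eq_zero_or_pos t).imp id fun h0 k hk => ?_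
    by_contra hle
    have h1 := pow_eq_zero_of_le (not_lt.1 hle) hk
    rw [hkey, sub_eq_zero, ← map_one (endHom (n := n) hF)] at h1
    have h2 := Nat.le_of_dvd (pow_pos hp.pos _) (hu ▸ orderOf_dvd_of_pow_eq_one (hinj h1))
    have h3 := Nat.pow_lt_pow_right hp.one_lt (show t - 1 < t by omega)
    omega
  have hb2n : t = 0 ∨ p ^ (t - 1) < n := hbd.imp id fun h => h _ (by
    have h1 := LinearMap.aeval_self_charpoly N
    rw [hnil.charpoly_eq_X_pow_finrank, map_pow, Polynomial.aeval_X, finrank_std] at h1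
    exact h1)
  have hspec : Spec F q n (p ^ t) := ⟨QuotientGroup.mk x, hπu⟩
  have hdetS : LinearMap.det S = 1 := by
    show LinearMap.det (((suEquiv n hF s : HSU (hermStd n hF)) : HU (hermStd n hF)).1).toLinearMap = 1
    rw [← LinearEquiv.coe_det]
    exact congrArg Units.val (suEquiv n hF s).2
  rcases block_cases (p := p) hF (hermStd_isHerm (n := n) hF) (by omega) finrank_std S N M hM0
      (fun h => hMp ((CharP.cast_eq_zero_iff F p M).1 h)) (by rw [hS, ← map_pow, ← hs, pow_orderOf_eq_one, map_one])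
      (fun a b => (suEquiv n hF s : HU (hermStd n hF)).2 a b) hdetS hnil
      ((((Commute.refl x).pow_pow (p ^ t) M).map (endHom hF)).sub_right (Commute.one_right _))
    with ⟨W, W', hW, hW', hc, horth, hinv⟩ | ⟨m, k, hnk, hm, hE, hNk, hk1⟩
  · left
    have hnsum : finrank F W + finrank F W' = n := by rw [Submodule.finrank_add_eq_of_isCompl hc, finrank_std]
    obtain ⟨c₁, c₂, hc₁, hc₂, hn₁, hn₂, hdet, hsep⟩ := exists_two_scalars (a := finrank F W) (b := finrank F W') hF hrq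
      (hnsum.symm ▸ hrn)
    let P := W.prodEquivOfIsCompl W' hc
    let Z : (Fin n → F) ≃ₗ[F] (Fin n → F) :=
      P.symm.trans ((LinearEquiv.prodCongr (LinearEquiv.smulOfUnit c₁) (LinearEquiv.smulOfUnit c₂)).trans P)
    have hP : ∀ (a : W) (b : W'), P (a, b) = (a : Fin n → F) + b := fun a b =>
      Submodule.coe_prodEquivOfIsCompl' W W' hc (a, b)
    have hZ : ∀ (a : W) (b : W'), Z ((a : Fin n → F) + b) = (c₁ : F) • (a : Fin n → F) + (c₂ : F) • (b : Fin n → F) := by
      intro a b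
      rw [← hP]
      show P ((LinearEquiv.prodCongr _ _) (P.symm (P (a, b)))) = _
      rw [LinearEquiv.symm_apply_apply, LinearEquiv.prodCongr_apply, hP]
      rfl
    have hdec : ∀ v, ∃ (a : W) (b : W'), v = (a : Fin n → F) + b := fun v =>
      ⟨(P.symm v).1, (P.symm v).2, by rw [← hP, Prod.mk.eta, LinearEquiv.apply_symm_apply]⟩
    have hZiso : ∀ a b, hermStd n hF (Z a) (Z b) = hermStd n hF a b := by
      intro v w
      obtain ⟨a, a', rfl⟩ := hdec v
      obtain ⟨b, b', rfl⟩ := hdec w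
      have h1 := horth _ a.2 _ b'.2
      have h2 := (hermStd_isHerm hF).eq_zero_symm (horth _ b.2 _ a'.2)
      rw [hZ, hZ]
      simp only [LinearMap.add_apply, map_add, smul_left, smul_right, powHom_apply, h1, h2, mul_zero, add_zero, zero_add]
      rw [← mul_assoc, ← mul_assoc, mul_comm (c₁ : F), mul_comm (c₂ : F), hn₁, hn₂, one_mul, one_mul]
    have hZdet : LinearMap.det (Z : (Fin n → F) →ₗ[F] (Fin n → F)) = 1 := by
      show LinearMap.det ((P : (W × W') →ₗ[F] (Fin n → F)).comp ((LinearMap.prodMap ((c₁ : F) • (1 : Module.End F W))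
        ((c₂ : F) • (1 : Module.End F W'))).comp (P.symm : (Fin n → F) →ₗ[F] (W × W')))) = 1
      rw [LinearMap.det_conj, LinearMap.det_prodMap, LinearMap.det_smul, LinearMap.det_smul, map_one, map_one,
        mul_one, mul_one, hdet]
    let Y : (Fin n → F) ≃ₗ[F] (Fin n → F) := ((suEquiv n hF x : HSU (hermStd n hF)) : HU (hermStd n hF)).1
    have hYW : (∀ u ∈ W, Y u ∈ W) ∧ ∀ u ∈ W', Y u ∈ W' :=
      hinv (endHom hF x) (((Commute.refl x).pow_right _).map (endHom hF))
    have hcomm : Commute Y Z := LinearEquiv.ext fun v => by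
      obtain ⟨a, b, rfl⟩ := hdec v
      rw [LinearEquiv.mul_apply, LinearEquiv.mul_apply, hZ, map_add Y, map_add Y, map_smul, map_smul]
      exact (hZ ⟨_, hYW.1 _ a.2⟩ ⟨_, hYW.2 _ b.2⟩).symm
    have hdetY : LinearMap.det (Y : (Fin n → F) →ₗ[F] (Fin n → F)) = 1 := by
      rw [← LinearEquiv.coe_det]; exact congrArg Units.val (suEquiv n hF x).2
    obtain ⟨y, hy⟩ := exists_psu_element (n := n) hF hn (hermStd_isHerm (n := n) hF) finrank_std (Y * Z)
      (fun a b => by
        show hermStd n hF (Y (Z a)) (Y (Z b)) = _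
        rw [show hermStd n hF (Y (Z a)) (Y (Z b)) = hermStd n hF (Z a) (Z b) from (suEquiv n hF x : HU (hermStd n hF)).2 _ _,
          hZiso])
      (by
        show LinearMap.det ((Y : (Fin n → F) →ₗ[F] (Fin n → F)) * (Z : (Fin n → F) →ₗ[F] (Fin n → F))) = 1
        rw [map_mul, hdetY, hZdet, one_mul])
    refine ⟨y, ?_⟩
    set k := orderOf y
    obtain ⟨c, hc'⟩ := (hy k).1 (pow_orderOf_eq_one y)
    have hZk : ∀ (l : ℕ) (a : W) (b : W'), (Z ^ l) ((a : Fin n → F) + b) = (c₁ : F) ^ l • (a : Fin n → F) + (c₂ : F) ^ l • (b : Fin n → F) := by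
      intro l
      induction l with
      | zero => intro a b; simp
      | succ l ih =>
        intro a b
        rw [pow_succ, LinearEquiv.mul_apply, hZ, ← Submodule.coe_smul, ← Submodule.coe_smul, ih, Submodule.coe_smul,
          Submodule.coe_smul, smul_smul, smul_smul, ← pow_succ, ← pow_succ]
    have hYpow : ∀ l : ℕ, ((Y ^ l : (Fin n → F) ≃ₗ[F] (Fin n → F)) : (Fin n → F) →ₗ[F] (Fin n → F)) = endHom hF (x ^ l) := by
      intro l
      induction l with
      | zero => rw [pow_zero, pow_zero, map_one]; rfl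
      | succ l ih => rw [pow_succ, pow_succ, map_mul, ← ih]; rfl
    set L := orderOf x with hL
    have hYL : Y ^ L = 1 := LinearEquiv.toLinearMap_injective (by rw [hYpow, hL, pow_orderOf_eq_one, map_one]; rfl)
    have hkL : ∀ v, (Z ^ (k * L)) v = c ^ L • v := by
      intro v
      have h1 : ∀ l v, ((Y * Z) ^ (k * l)) v = c ^ l • v := by
        intro l
        induction l with
        | zero => intro v; simp
        | succ l ih => intro v; rw [mul_add, mul_one, pow_add, LinearEquiv.mul_apply, hc', map_smul, ih, smul_smul, ← pow_succ']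
      have h2 := h1 L v
      rw [hcomm.mul_pow, pow_mul Y, ← pow_mul Y k L, mul_comm k L, pow_mul Y L k, hYL, one_pow, one_mul, mul_comm L k] at h2
      exact h2
    obtain ⟨a₀, ha₀, ha0⟩ := Submodule.exists_mem_ne_zero_of_ne_bot hW
    obtain ⟨b₀, hb₀, hb0⟩ := Submodule.exists_mem_ne_zero_of_ne_bot hW'
    have e₁ : (c₁ : F) ^ (k * L) = c ^ L := by
      have h := hkL a₀
      rw [← add_zero a₀, show (0 : Fin n → F) = ((0 : W') : Fin n → F) from rfl,
        show a₀ = ((⟨a₀, ha₀⟩ : W) : Fin n → F) from rfl, hZk] at h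
      exact smul_left_injective F ha0 (by simpa using h)
    have e₂ : (c₂ : F) ^ (k * L) = c ^ L := by
      have h := hkL b₀
      rw [← zero_add b₀, show (0 : Fin n → F) = ((0 : W) : Fin n → F) from rfl,
        show b₀ = ((⟨b₀, hb₀⟩ : W') : Fin n → F) from rfl, hZk] at h
      exact smul_left_injective F hb0 (by simpa using h)
    have hrk : r ∣ k := by
      have h := hsep (k * L) (Units.ext (by rw [Units.val_pow_eq_pow_val, Units.val_pow_eq_pow_val, e₁, e₂]))
      exact (hr.dvd_mul.1 h).resolve_right hrx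
    have hok : o ∣ k := by
      obtain ⟨l, hl⟩ := hrk
      refine orderOf_dvd_of_pow_eq_one ?_
      rw [← QuotientGroup.mk_pow, QuotientGroup.eq_one_iff]
      refine mem_center_of_scalar hF hn _ c fun v => ?_
      rw [← hYpow]
      have hZ1 : Z ^ k = 1 := LinearEquiv.ext fun v => by
        obtain ⟨a, b, rfl⟩ := hdec v
        rw [hZk, hl, pow_mul, pow_mul, show (c₁ : F) ^ r = 1 by rw [← Units.val_pow_eq_pow_val, hc₁, Units.val_one],
          show (c₂ : F) ^ r = 1 by rw [← Units.val_pow_eq_pow_val, hc₂, Units.val_one], one_pow, one_smul, one_smul]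
        rfl
      have h := hc' v
      rwa [hcomm.mul_pow, hZ1, mul_one] at h
    exact Nat.Coprime.mul_dvd_of_dvd_of_dvd (hr.coprime_iff_not_dvd.2 hg) hrk hok
  · have hscal : ∀ e, ScalarPow S q e → Mb ∣ e := by
      rintro e ⟨c, -, hc⟩
      refine orderOf_dvd_of_pow_eq_one ?_
      rw [← QuotientGroup.mk_pow, QuotientGroup.eq_one_iff]
      exact mem_center_of_scalar hF hn _ c fun v => by rw [map_pow]; exact hc v
    have : Nontrivial (Fin n → F) := inferInstance
    have hk0 : k ≠ 0 := fun h => by rw [h, pow_zero] at hNk; exact one_ne_zero hNk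
    by_cases hk : k = 1
    · exact Or.inr ⟨Mb, t, hoM, hscal _ (hk1 hk), hb2n, hspec⟩
    rcases (show m = 1 ∨ 2 ≤ m by omega) with rfl | hm2
    · refine Or.inr ⟨Mb, t, hoM, ?_, hb2n, hspec⟩
      have h1 := hscal _ hE
      rw [torusOrder, if_pos odd_one, pow_one, Nat.div_self (Nat.succ_pos q)] at h1
      rw [Nat.dvd_one.1 h1]
      exact one_dvd _
    left
    obtain ⟨b, rfl⟩ : ∃ b, k = b + 2 := ⟨k - 2, by omega⟩
    obtain rfl : n = m + m * (b + 1) := by rw [hnk]; ring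
    have hmb : 2 * (b + 1) ≤ m * (b + 1) := Nat.mul_le_mul_right _ hm2
    rw [hoM, ← mul_assoc]
    refine spec_block hF hr hrq hn hrn (by omega) (by omega) (fun h => hg (hoM ▸ h.mul_right _)) ?_ (hscal _ hE)
      (hbd.imp id fun h => ?_)
    · exact Nat.Coprime.coprime_dvd_left hMbM hMcop
    · have := h _ hNk
      omega

/-- The exceptional orders reduce to one torus and one unipotent element. -/
theorem double_or_exceptional (hF : Fintype.card F = q ^ 2) (hn : 3 ≤ n) {r : ℕ} (hr : r.Prime) (hrq : r ∣ q + 1)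
    (hrn : ¬ r ∣ n) (L : List (Cfsg.PSU n F q)) (hL : ∀ g ∈ L, ¬ r ∣ orderOf g) :
    (∃ g ∈ L, Spec F q n (r * orderOf g)) ∨
      ∃ T, (T = 0 ∨ p ^ (T - 1) < n) ∧ Spec F q n (p ^ T) ∧
        ∀ g ∈ L, orderOf g ∣ torusOrder q n / Nat.gcd n (q + 1) * p ^ T := by
  induction L with
  | nil => exact Or.inr ⟨0, Or.inl rfl, ⟨1, by simp⟩, fun g hg => absurd hg (List.not_mem_nil)⟩
  | cons g L ih =>
    rcases odd_element_cases (p := p) hF hn hr hrq hrn g (hL g List.mem_cons_self) with h | ⟨M, t, ho, hME, ht, hts⟩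
    · exact Or.inl ⟨g, List.mem_cons_self, h⟩
    rcases ih fun x hx => hL x (List.mem_cons_of_mem _ hx) with ⟨x, hx, h⟩ | ⟨T, hT, hTs, hd⟩
    · exact Or.inl ⟨x, List.mem_cons_of_mem _ hx, h⟩
    refine Or.inr ?_
    rcases le_total t T with h | h
    · refine ⟨T, hT, hTs, fun x hx => ?_⟩
      rcases List.mem_cons.1 hx with rfl | hx
      · exact ho ▸ mul_dvd_mul hME (pow_dvd_pow p h)
      · exact hd x hx
    · refine ⟨t, ht, hts, fun x hx => ?_⟩
      rcases List.mem_cons.1 hx with rfl | hx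
      · exact ho ▸ mul_dvd_mul_right hME _
      · exact (hd x hx).trans (mul_dvd_mul_left _ (pow_dvd_pow p h))

theorem torus_coprime (hF : Fintype.card F = q ^ 2) (hn : 1 ≤ n) :
    (torusOrder q n / Nat.gcd n (q + 1)).Coprime p := by
  have hp : p.Prime := Fact.out
  obtain ⟨p', e, hp', hc, hq⟩ := exists_prime_pow_root hF
  obtain rfl : p' = p := CharP.eq F hc ‹CharP F p›
  have hq2 := two_le_of_card_sq hF
  have hpq : p' ∣ q ^ n := hq ▸ by
    rw [← pow_mul]
    exact dvd_pow_self p' (Nat.mul_ne_zero (fun h => by rw [h, pow_zero] at hq; omega) (by omega))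
  refine Nat.Coprime.coprime_dvd_left (Nat.div_dvd_of_dvd (gcd_dvd_torusOrder q n (by omega))) ?_
  refine (hp.coprime_iff_not_dvd.2 fun h => hp.ne_one (Nat.dvd_one.1 ?_)).symm
  have h1 := h.mul_left (q + 1)
  by_cases hodd : Odd n
  · rw [mul_torusOrder_odd hodd] at h1
    exact (Nat.dvd_add_right hpq).1 h1
  · rw [mul_torusOrder_even hodd] at h1
    have := Nat.dvd_sub hpq h1
    rwa [Nat.sub_sub_self (Nat.one_le_pow n q (by omega))] at this

omit [Fintype F] [Fact p.Prime] [CharP F p] in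
theorem range_eq {X : Type*} [Group X] [Finite X] {Y : Type*} [Group Y] {r : ℕ} (hr : r.Prime) (i : X → Y)
    (hi : ∀ x, orderOf (i x) = orderOf x)
    (hY : ∀ y : Y, ∃ x : X, orderOf y = orderOf x ∨ orderOf y = Nat.lcm (orderOf x) r)
    (hd : ∀ x : X, ¬ r ∣ orderOf x → ∃ x' : X, r * orderOf x ∣ orderOf x') :
    Set.range (orderOf : Y → ℕ) = Set.range (orderOf : X → ℕ) := by
  refine Set.Subset.antisymm ?_ ?_
  · rintro _ ⟨y, rfl⟩
    obtain ⟨x, h | h⟩ := hY y
    · exact ⟨x, h.symm⟩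
    by_cases he : r ∣ orderOf x
    · exact ⟨x, by rw [h, Nat.lcm_eq_left he]⟩
    · obtain ⟨x', hx'⟩ := hd x he
      refine ⟨x' ^ (orderOf x' / (r * orderOf x)), ?_⟩
      rw [h, ((hr.coprime_iff_not_dvd.2 he).symm).lcm_eq_mul, mul_comm (orderOf x) r]
      exact orderOf_pow_orderOf_div (orderOf_pos x').ne' hx'
  · rintro _ ⟨x, rfl⟩
    exact ⟨i x, hi x⟩

end CfsgLib.HallGen.UnitarySpectrum
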