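import Cfsg.Agent.Lib.HallGen.UnitarySpectrum.Main
import Cfsg.Agent.Lib.Classical.PSLThreeSpectrum

/-!
# The element orders of `PSU 3`
-/

set_option autoImplicit false

namespace CfsgLib.HallGen.UnitarySpectrum

open Polynomial Module CfsgLib.Classical CfsgLib.Classical.Herm
open scoped Matrix

variable {F : Type*} [Field F] [Fintype F] {q : ℕ}

omit [Fintype F] in
/-- A power that is a scalar matrix is trivial in `PSU`. -/
theorem three_pow_eq_one {n : ℕ} (x : Cfsg.SU n F q) (N : ℕ) (c : F)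
    (h : ((x : Matrix.SpecialLinearGroup (Fin n) F) : Matrix (Fin n) (Fin n) F) ^ N = Matrix.scalar (Fin n) c) :
    (QuotientGroup.mk x : Cfsg.PSU n F q) ^ N = 1 := by
  rw [← QuotientGroup.mk_pow, QuotientGroup.eq_one_iff, Subgroup.mem_center_iff]
  intro y
  refine Subtype.ext (Subtype.ext ?_)
  simp only [Subgroup.coe_mul, Subgroup.coe_pow, Matrix.SpecialLinearGroup.coe_mul,
    Matrix.SpecialLinearGroup.coe_pow]
  rw [h]
  exact (Matrix.scalar_commute c (Commute.all c) _).symm.eq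

/-- The roots of the characteristic polynomial are closed under `α ↦ α ^ (-q)`. -/
theorem three_root_star (hF : Fintype.card F = q ^ 2) {n : ℕ} (x : Cfsg.SU n F q) {K : Type*} [Field K]
    [Algebra F K] (α : K)
    (h : aeval α (((x : Matrix.SpecialLinearGroup (Fin n) F) : Matrix (Fin n) (Fin n) F)).charpoly = 0) :
    α ≠ 0 ∧
      aeval (α ^ q)⁻¹ (((x : Matrix.SpecialLinearGroup (Fin n) F) : Matrix (Fin n) (Fin n) F)).charpoly = 0 := by
  classical
  set M := ((x : Matrix.SpecialLinearGroup (Fin n) F) : Matrix (Fin n) (Fin n) F) with hM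
  obtain ⟨p, e, hp, hc, hq⟩ := exists_prime_pow_root hF
  haveI : Fact p.Prime := ⟨hp⟩
  haveI : CharP K p := charP_of_injective_algebraMap (algebraMap F K).injective p
  have hunit : ∀ i j, ∑ k, M k i * (M k j) ^ q = if i = j then 1 else 0 := by
    intro i j
    have := x.2 (Pi.single i 1) (Pi.single j 1)
    simp only [Cfsg.hermForm] at this
    have e1 : ∀ (k l : Fin n), (Cfsg.slToMat n F (x : Matrix.SpecialLinearGroup (Fin n) F) *ᵥ Pi.single l 1) k = M k l := by
      intro k l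
      rw [Matrix.mulVec_single_one]
      rfl
    simp only [e1] at this
    rw [this]
    have hq0 : q ≠ 0 := by have := two_le_of_card_sq hF; omega
    simp [Pi.single_apply, hq0, eq_comm]
  set A := M.map (algebraMap F K) with hA
  let σ : K →+* K := iterateFrobenius K p e
  have hσ : ∀ y, σ y = y ^ q := fun y => by rw [hq]; rfl
  have hmul : Aᵀ * σ.mapMatrix A = 1 := by
    ext i j
    simp only [Matrix.mul_apply, Matrix.transpose_apply, RingHom.mapMatrix_apply, Matrix.map_apply, hσ, hA]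
    rw [show ∑ k, algebraMap F K (M k i) * algebraMap F K (M k j) ^ q = algebraMap F K (∑ k, M k i * (M k j) ^ q) by
      simp [map_sum, map_mul, map_pow], hunit, Matrix.one_apply]
    split_ifs <;> simp
  have hev : ∀ y : K, aeval y M.charpoly = (Matrix.scalar (Fin n) y - A).det := by
    intro y
    rw [aeval_def, ← eval_map, hA, ← Matrix.charpoly_map, Matrix.eval_charpoly]
  have hdA : A.det ≠ 0 := by
    intro h0
    have := congrArg Matrix.det hmul
    rw [Matrix.det_mul, Matrix.det_transpose, h0, zero_mul, Matrix.det_one] at this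
    exact zero_ne_one this
  have hα : α ≠ 0 := by
    rintro rfl
    rw [hev, map_zero, zero_sub, Matrix.det_neg] at h
    exact hdA ((mul_eq_zero.1 h).resolve_left (pow_ne_zero _ (neg_ne_zero.2 one_ne_zero)))
  refine ⟨hα, ?_⟩
  rw [hev] at h
  have h1 : σ.mapMatrix (Matrix.scalar (Fin n) α - A) = Matrix.scalar (Fin n) (α ^ q) - σ.mapMatrix A := by
    rw [map_sub]
    congr 1
    rw [Matrix.scalar_apply, RingHom.mapMatrix_apply, Matrix.diagonal_map (map_zero σ), Matrix.scalar_apply]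
    exact congrArg Matrix.diagonal (funext fun _ => hσ α)
  have h2 : (Matrix.scalar (Fin n) (α ^ q) - σ.mapMatrix A).det = 0 := by
    rw [← h1, ← RingHom.map_det, h, map_zero]
  set a := α ^ q with ha
  have ha0 : a ≠ 0 := pow_ne_zero _ hα
  have h3 : Aᵀ * (Matrix.scalar (Fin n) a - σ.mapMatrix A) = (-a) • (Matrix.scalar (Fin n) a⁻¹ - Aᵀ) := by
    have hs : ∀ c : K, Matrix.scalar (Fin n) c = c • (1 : Matrix (Fin n) (Fin n) K) := fun c => by
      rw [Matrix.smul_one_eq_diagonal]; rfl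
    rw [Matrix.mul_sub, hmul, hs, hs, mul_smul_comm, mul_one, smul_sub, smul_smul, neg_mul, mul_inv_cancel₀ ha0]
    simp only [neg_smul, one_smul]
    abel
  have h4 := congrArg Matrix.det h3
  rw [Matrix.det_mul, h2, mul_zero, Matrix.det_smul] at h4
  rw [aeval_def, ← eval_map, ← Matrix.charpoly_map, ← hA, ← Matrix.charpoly_transpose, Matrix.eval_charpoly]
  exact (mul_eq_zero.1 h4.symm).resolve_left (pow_ne_zero _ (neg_ne_zero.2 ha0))

theorem torusOrder_three (q : ℕ) (hq : 1 ≤ q) : torusOrder q 3 = q ^ 2 - q + 1 := by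
  refine Nat.eq_of_mul_eq_mul_left (Nat.succ_pos q) ?_
  rw [mul_torusOrder_odd (by decide), Nat.succ_eq_add_one]
  obtain ⟨k, rfl⟩ : ∃ k, q = k + 1 := ⟨q - 1, by omega⟩
  rw [show (k + 1) ^ 2 - (k + 1) = k * (k + 1) from Nat.sub_eq_of_eq_add (by ring)]
  ring

theorem three_gcd_add_dvd_sq_sub_one (q : ℕ) : Nat.gcd 3 (q + 1) ∣ q ^ 2 - 1 :=
  (Nat.gcd_dvd_right _ _).trans ⟨q - 1, by rw [← Nat.sq_sub_sq, one_pow]⟩

variable (p : ℕ) [Fact p.Prime] [CharP F p]

/-- Every element order of `PSU 3` divides one of four numbers. -/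
theorem three_exists_exponent (hp : p ≠ 2) (hF : Fintype.card F = q ^ 2) (g : Cfsg.PSU 3 F q) :
    orderOf g ∣ q + 1 ∨ orderOf g ∣ p * (q + 1) / Nat.gcd 3 (q + 1) ∨
      orderOf g ∣ (q ^ 2 - 1) / Nat.gcd 3 (q + 1) ∨ orderOf g ∣ (q ^ 2 - q + 1) / Nat.gcd 3 (q + 1) := by
  classical
  obtain ⟨x, rfl⟩ := QuotientGroup.mk_surjective g
  set d := Nat.gcd 3 (q + 1) with hd
  set M := ((x : Matrix.SpecialLinearGroup (Fin 3) F) : Matrix (Fin 3) (Fin 3) F) with hMdef
  have hq2 : 2 ≤ q := two_le_of_card_sq hF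
  set χ := M.charpoly with hχ
  have hmon : χ.Monic := Matrix.charpoly_monic M
  have hdeg : χ.natDegree = 3 := by rw [hχ, Matrix.charpoly_natDegree_eq_dim, Fintype.card_fin]
  have h0 : χ.coeff 0 = -1 := by
    have h := Matrix.det_eq_sign_charpoly_coeff M
    rw [show M.det = 1 from (x : Matrix.SpecialLinearGroup (Fin 3) F).2, Fintype.card_fin, ← hχ] at h
    linear_combination h
  have kill : ∀ (N : ℕ) (c : F), χ ∣ X ^ N - C c → orderOf (QuotientGroup.mk x : Cfsg.PSU 3 F q) ∣ N := by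
    rintro N c ⟨u, hu⟩
    refine orderOf_dvd_of_pow_eq_one (three_pow_eq_one x N c ?_)
    have h1 := congrArg (aeval M) hu
    simp only [map_sub, map_pow, aeval_X, aeval_C, map_mul, hχ, Matrix.aeval_self_charpoly, zero_mul,
      sub_eq_zero] at h1
    exact h1
  by_cases hroot : χ.roots = 0
  · have hirr : Irreducible χ :=
      (hmon.irreducible_iff_roots_eq_zero_of_degree_le_three (by omega) (by omega)).2 hroot
    haveI : Fact (Irreducible χ) := ⟨hirr⟩
    let pb := AdjoinRoot.powerBasis hirr.ne_zero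
    haveI : FiniteDimensional F (AdjoinRoot χ) := pb.finite
    haveI : Finite (AdjoinRoot χ) := Module.finite_of_finite F
    haveI : Fintype (AdjoinRoot χ) := Fintype.ofFinite _
    set α := AdjoinRoot.root χ with hαdef
    have hαr : aeval α χ = 0 := by rw [AdjoinRoot.aeval_eq, AdjoinRoot.mk_self]
    obtain ⟨hα0, hαs⟩ := three_root_star hF x α hαr
    have hcard : Fintype.card (AdjoinRoot χ) = (q ^ 2) ^ 3 := by
      rw [← Nat.card_eq_fintype_card, Module.natCard_eq_pow_finrank (K := F), pb.finrank,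
        Nat.card_eq_fintype_card, hF]
      simp [pb, hdeg]
    have hfr : ∀ y : AdjoinRoot χ, aeval y χ = 0 → aeval (y ^ q ^ 2) χ = 0 := by
      intro y hy
      have := aeval_algHom_apply (FiniteField.frobeniusAlgHom F (AdjoinRoot χ)) y χ
      rw [hy, map_zero, FiniteField.coe_frobeniusAlgHom, hF] at this
      exact this
    have hper : α ^ ((q ^ 2) ^ 3) = α := by rw [← hcard, FiniteField.pow_card]
    have hnF : α ^ q ^ 2 ≠ α := by
      intro h
      have h' : α ^ (Fintype.card F - 1) = 1 := by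
        rw [hF]
        refine mul_right_cancel₀ hα0 ?_
        rw [one_mul, ← pow_succ, Nat.sub_add_cancel (Nat.one_le_pow 2 q (by omega))]
        exact h
      obtain ⟨c, hc⟩ := CfsgLib.Known.PSLTori.exists_algebraMap_eq (F := F) α h'
      rw [← hc, aeval_algebraMap_apply, map_eq_zero] at hαr
      have : c ∈ χ.roots := (mem_roots hmon.ne_zero).2 (by simpa using hαr)
      simp [hroot] at this
    have hd1 : (α ^ q ^ 2) ^ q ^ 2 ≠ α := by
      intro h
      refine hnF ?_
      conv_rhs => rw [← hper]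
      rw [pow_succ (q ^ 2) 2, pow_mul, pow_two (q ^ 2), pow_mul, h]
    have hd2 : (α ^ q ^ 2) ^ q ^ 2 ≠ α ^ q ^ 2 := by
      obtain ⟨p', e, hp', hc', hqe⟩ := exists_prime_pow_root hF
      haveI := Fact.mk hp'
      haveI : CharP (AdjoinRoot χ) p' := charP_of_injective_algebraMap (algebraMap F _).injective p'
      intro h
      refine hnF ((iterateFrobenius (AdjoinRoot χ) p' (e * 2)).injective ?_)
      rw [iterateFrobenius_def, iterateFrobenius_def, pow_mul p' e 2, ← hqe]
      exact h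
    have hβ : (α ^ q)⁻¹ = α ∨ (α ^ q)⁻¹ = α ^ q ^ 2 ∨ (α ^ q)⁻¹ = (α ^ q ^ 2) ^ q ^ 2 := by
      by_contra hne
      push Not at hne
      set S : Finset (AdjoinRoot χ) := {α, α ^ q ^ 2, (α ^ q ^ 2) ^ q ^ 2, (α ^ q)⁻¹} with hS
      have hsub : S ⊆ (χ.aroots (AdjoinRoot χ)).toFinset := by
        intro y hy
        rw [Multiset.mem_toFinset, mem_aroots]
        refine ⟨hmon.ne_zero, ?_⟩
        simp only [hS, Finset.mem_insert, Finset.mem_singleton] at hy
        rcases hy with rfl | rfl | rfl | rfl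
        exacts [hαr, hfr _ hαr, hfr _ (hfr _ hαr), hαs]
      have h4 : S.card = 4 := by
        rw [hS, Finset.card_insert_of_notMem, Finset.card_insert_of_notMem, Finset.card_insert_of_notMem,
          Finset.card_singleton]
        · simp [hne.2.2.symm]
        · simp [hd2.symm, hne.2.1.symm]
        · simp [hnF.symm, hd1.symm, hne.1.symm]
      have := (Finset.card_le_card hsub).trans ((Multiset.toFinset_card_le _).trans (card_roots' _))
      rw [Polynomial.natDegree_map, hdeg] at this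
      omega
    have hE : α ^ (q ^ 3 + 1) = 1 := by
      have hq1 : ∀ y : AdjoinRoot χ, (α ^ q)⁻¹ = y → y * α ^ q = 1 := fun y h => by
        rw [← h, inv_mul_cancel₀ (pow_ne_zero _ hα0)]
      obtain ⟨p', e, hp', hc', hqe⟩ := exists_prime_pow_root hF
      haveI := Fact.mk hp'
      haveI : CharP (AdjoinRoot χ) p' := charP_of_injective_algebraMap (algebraMap F _).injective p'
      have hinj : Function.Injective fun y : AdjoinRoot χ => y ^ q := by
        intro a b h
        refine (iterateFrobenius (AdjoinRoot χ) p' e).injective ?_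
        rw [iterateFrobenius_def, iterateFrobenius_def, ← hqe]
        exact h
      have hnot : α ^ (q + 1) ≠ 1 := by
        intro h
        refine hnF ?_
        calc α ^ q ^ 2 = α ^ ((q + 1) * (q - 1) + 1) := by
              rw [← Nat.sq_sub_sq, one_pow, Nat.sub_add_cancel (Nat.one_le_pow 2 q (by omega))]
          _ = α := by rw [pow_succ, pow_mul, h, one_pow, one_mul]
      rcases hβ with h | h | h
      · exact absurd (by rw [pow_succ', hq1 _ h]) hnot
      · refine absurd (hinj (show (α ^ (q + 1)) ^ q = (1 : AdjoinRoot χ) ^ q from ?_)) hnot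
        rw [one_pow, ← hq1 _ h]
        ring
      · refine hinj (show (α ^ (q ^ 3 + 1)) ^ q = (1 : AdjoinRoot χ) ^ q from ?_)
        rw [one_pow, ← hq1 _ h]
        ring
    have hdet : α ^ ((q ^ 2) ^ 2 + q ^ 2 + 1) = 1 := by
      have hr := CfsgLib.Known.PSLTori.root_pow_eq χ hirr hmon
      rw [hdeg, h0, hF, show (-1 : F) ^ 3 * -1 = 1 by ring, map_one] at hr
      have hE' : ((q ^ 2) ^ 3 - 1) / (q ^ 2 - 1) = (q ^ 2) ^ 2 + q ^ 2 + 1 := by
        have h4 : 4 ≤ q ^ 2 := Nat.pow_le_pow_left hq2 2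
        refine Nat.div_eq_of_eq_mul_left (by omega) ?_
        obtain ⟨k, hk⟩ : ∃ k, q ^ 2 = k + 1 := ⟨q ^ 2 - 1, by omega⟩
        rw [hk, Nat.add_sub_cancel]
        exact Nat.sub_eq_of_eq_add (by ring)
      rwa [hE'] at hr
    set E := q ^ 2 - q + 1 with hEdef
    have hαE : α ^ E = 1 := by
      have hgcd : Nat.gcd (q ^ 3 + 1) ((q ^ 2) ^ 2 + q ^ 2 + 1) ∣ E := by
        obtain ⟨k, rfl⟩ : ∃ k, q = k + 1 := ⟨q - 1, by omega⟩
        have hE1 : (k + 1) ^ 2 - (k + 1) + 1 = k ^ 2 + k + 1 := by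
          rw [show (k + 1) ^ 2 - (k + 1) = k * (k + 1) from Nat.sub_eq_of_eq_add (by ring)]; ring
        rw [hEdef, hE1, show (k + 1) ^ 3 + 1 = (k ^ 2 + k + 1) * (k + 2) by ring,
          show ((k + 1) ^ 2) ^ 2 + (k + 1) ^ 2 + 1 = (k ^ 2 + k + 1) * ((k + 1) * (k + 2) + 1) by ring,
          Nat.gcd_mul_left]
        rw [show Nat.gcd (k + 2) ((k + 1) * (k + 2) + 1) = 1 from Nat.dvd_one.1 (by
          have h := Nat.dvd_sub (Nat.gcd_dvd_right (k + 2) ((k + 1) * (k + 2) + 1))
            ((Nat.gcd_dvd_left (k + 2) ((k + 1) * (k + 2) + 1)).mul_left (k + 1))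
          rwa [Nat.add_sub_cancel_left] at h), mul_one]
      exact orderOf_dvd_iff_pow_eq_one.1
        ((Nat.dvd_gcd (orderOf_dvd_of_pow_eq_one hE) (orderOf_dvd_of_pow_eq_one hdet)).trans hgcd)
    have hdE : d ∣ E := by
      have h := gcd_dvd_torusOrder q 3 (by omega)
      rwa [torusOrder_three q (by omega)] at h
    obtain ⟨c, hc⟩ := CfsgLib.Known.PSLTori.exists_pow_eq_scalar M χ hirr
      (minpoly.dvd F M (Matrix.aeval_self_charpoly M)) (E / d) E hαE (by
        rw [hF]
        calc E = E / d * d := (Nat.div_mul_cancel hdE).symm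
          _ ∣ E / d * (q ^ 2 - 1) := mul_dvd_mul_left _ (three_gcd_add_dvd_sq_sub_one q))
    exact Or.inr (Or.inr (Or.inr (orderOf_dvd_of_pow_eq_one (three_pow_eq_one x _ c hc))))
  obtain ⟨a, ha⟩ := Multiset.exists_mem_of_ne_zero hroot
  rw [mem_roots hmon.ne_zero] at ha
  set g2 := χ /ₘ (X - C a) with hg2def
  have hfac : (X - C a) * g2 = χ := mul_divByMonic_eq_iff_isRoot.2 ha
  have hgm : g2.Monic := (monic_X_sub_C a).of_mul_monic_left (hfac.symm ▸ hmon)
  have hgdeg : g2.natDegree = 2 := by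
    have := congrArg natDegree hfac
    rw [natDegree_mul (X_sub_C_ne_zero a) hgm.ne_zero, natDegree_X_sub_C, hdeg] at this
    omega
  have hg0 : a * g2.coeff 0 = 1 := by
    have := congrArg (fun f : F[X] => f.coeff 0) hfac
    simp only [mul_coeff_zero, coeff_sub, coeff_X_zero, coeff_C_zero, h0, zero_sub] at this
    linear_combination -this
  have ha0 : a ≠ 0 := left_ne_zero_of_mul_eq_one hg0
  by_cases hroot2 : g2.roots = 0
  · exfalso
    have hirr : Irreducible g2 :=
      (hgm.irreducible_iff_roots_eq_zero_of_degree_le_three (by omega) (by omega)).2 hroot2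
    haveI : Fact (Irreducible g2) := ⟨hirr⟩
    set β := AdjoinRoot.root g2 with hβdef
    have hβ2 : aeval β g2 = 0 := by rw [AdjoinRoot.aeval_eq, AdjoinRoot.mk_self]
    obtain ⟨hβ0, hs⟩ := three_root_star hF x β (by
      show aeval β χ = 0
      rw [← hfac, map_mul, hβ2, mul_zero])
    have hnF : β ^ q ^ 2 ≠ β := by
      intro h
      obtain ⟨c, hc⟩ := CfsgLib.Known.PSLTori.exists_algebraMap_eq (F := F) β (by
        rw [hF]
        refine mul_right_cancel₀ hβ0 ?_
        rw [one_mul, ← pow_succ, Nat.sub_add_cancel (Nat.one_le_pow 2 q (by omega))]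
        exact h)
      rw [← hc, aeval_algebraMap_apply, map_eq_zero] at hβ2
      have : c ∈ g2.roots := (mem_roots hgm.ne_zero).2 (by simpa using hβ2)
      simp [hroot2] at this
    -- the roots of the quadratic factor are `β` and its Frobenius conjugate
    let pb := AdjoinRoot.powerBasis hirr.ne_zero
    haveI : FiniteDimensional F (AdjoinRoot g2) := pb.finite
    haveI : Finite (AdjoinRoot g2) := Module.finite_of_finite F
    obtain ⟨p', e, hp', hc', hqe⟩ := exists_prime_pow_root hF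
    haveI := Fact.mk hp'
    haveI : CharP (AdjoinRoot g2) p' := charP_of_injective_algebraMap (algebraMap F _).injective p'
    have hinj : Function.Injective fun y : AdjoinRoot g2 => y ^ q := by
      intro u v h
      refine (iterateFrobenius (AdjoinRoot g2) p' e).injective ?_
      rw [iterateFrobenius_def, iterateFrobenius_def, ← hqe]
      exact h
    have hnot : β ^ (q + 1) ≠ 1 := by
      intro h
      refine hnF ?_
      calc β ^ q ^ 2 = β ^ ((q + 1) * (q - 1) + 1) := by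
            rw [← Nat.sq_sub_sq, one_pow, Nat.sub_add_cancel (Nat.one_le_pow 2 q (by omega))]
        _ = β := by rw [pow_succ, pow_mul, h, one_pow, one_mul]
    have hsa : (β ^ q)⁻¹ ≠ algebraMap F _ a := by
      intro h
      refine hnF (hinj ?_)
      show (β ^ q ^ 2) ^ q = β ^ q
      rw [← pow_mul, mul_comm, pow_mul, ← inv_inv (β ^ q), h, ← map_inv₀, ← map_pow, ← hF,
        FiniteField.pow_card]
    have hs2 : aeval (β ^ q)⁻¹ g2 = 0 := by
      have h := hs
      change aeval (β ^ q)⁻¹ χ = 0 at h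
      rw [← hfac, map_mul, map_sub, aeval_X, aeval_C] at h
      exact (mul_eq_zero.1 h).resolve_left (sub_ne_zero.2 hsa)
    have hfr : aeval (β ^ q ^ 2) g2 = 0 := by
      have := aeval_algHom_apply (FiniteField.frobeniusAlgHom F (AdjoinRoot g2)) β g2
      rw [hβ2, map_zero, FiniteField.coe_frobeniusAlgHom, hF] at this
      exact this
    have hor : (β ^ q)⁻¹ = β ∨ (β ^ q)⁻¹ = β ^ q ^ 2 := by
      by_contra hne
      push Not at hne
      set S : Finset (AdjoinRoot g2) := {β, β ^ q ^ 2, (β ^ q)⁻¹} with hS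
      have hsub : S ⊆ (g2.aroots (AdjoinRoot g2)).toFinset := by
        intro y hy
        rw [Multiset.mem_toFinset, mem_aroots]
        refine ⟨hgm.ne_zero, ?_⟩
        simp only [hS, Finset.mem_insert, Finset.mem_singleton] at hy
        rcases hy with rfl | rfl | rfl
        exacts [hβ2, hfr, hs2]
      have h4 : S.card = 3 := by
        rw [hS, Finset.card_insert_of_notMem, Finset.card_insert_of_notMem, Finset.card_singleton]
        · simp [hne.2.symm]
        · simp [hnF.symm, hne.1.symm]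
      have := (Finset.card_le_card hsub).trans ((Multiset.toFinset_card_le _).trans (card_roots' _))
      rw [Polynomial.natDegree_map, hgdeg] at this
      omega
    rcases hor with h | h
    · exact hnot (by rw [pow_succ']; nth_rw 1 [← h]; exact inv_mul_cancel₀ (pow_ne_zero _ hβ0))
    · refine hnot (hinj ?_)
      show (β ^ (q + 1)) ^ q = 1 ^ q
      rw [one_pow, show (β ^ (q + 1)) ^ q = β ^ q ^ 2 * β ^ q by ring, ← h,
        inv_mul_cancel₀ (pow_ne_zero _ hβ0)]
  obtain ⟨b, hb⟩ := Multiset.exists_mem_of_ne_zero hroot2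
  rw [mem_roots hgm.ne_zero] at hb
  have hfac2 : (X - C b) * (g2 /ₘ (X - C b)) = g2 := mul_divByMonic_eq_iff_isRoot.2 hb
  have hlm : (g2 /ₘ (X - C b)).Monic := (monic_X_sub_C b).of_mul_monic_left (hfac2.symm ▸ hgm)
  obtain ⟨c, hc⟩ : ∃ c : F, g2 = (X - C b) * (X - C c) := by
    refine ⟨-(g2 /ₘ (X - C b)).coeff 0, ?_⟩
    have hl : (g2 /ₘ (X - C b)).natDegree = 1 := by
      have := congrArg natDegree hfac2
      rw [natDegree_mul (X_sub_C_ne_zero b) hlm.ne_zero, natDegree_X_sub_C, hgdeg] at this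
      omega
    conv_lhs => rw [← hfac2, hlm.eq_X_add_C hl]
    rw [map_neg, sub_neg_eq_add]
  have habc : a * (b * c) = 1 := by
    rw [← hg0, hc]
    simp [mul_coeff_zero]
  have hχ' : χ = (X - C a) * ((X - C b) * (X - C c)) := by rw [← hfac, hc]
  have hb0 : b ≠ 0 := fun h => by simp [h] at habc
  have hc0 : c ≠ 0 := fun h => by simp [h] at habc
  have cop : ∀ {u v : F}, u ≠ v → IsCoprime (X - C u) (X - C v) := fun h =>
    isCoprime_X_sub_C_of_isUnit_sub (sub_ne_zero.2 h).isUnit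
  have hone : ∀ u : F, u ≠ 0 → u ^ (q ^ 2 - 1) = 1 := fun u hu => by
    rw [← hF]; exact FiniteField.pow_card_sub_one_eq_one u hu
  have hmem : ∀ u : F, u = a ∨ u = b ∨ u = c →
      (u ^ q)⁻¹ = a ∨ (u ^ q)⁻¹ = b ∨ (u ^ q)⁻¹ = c := by
    intro u hu
    have h := (three_root_star hF x u (by
      show aeval u χ = 0
      rw [hχ']
      simp only [map_mul, map_sub, aeval_X, aeval_C, Algebra.algebraMap_self, RingHom.id_apply]
      rcases hu with rfl | rfl | rfl <;> simp)).2
    change aeval (u ^ q)⁻¹ χ = 0 at h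
    rw [hχ'] at h
    simpa [sub_eq_zero] using h
  have hstar2 : ∀ u : F, ((u ^ q)⁻¹ ^ q)⁻¹ = u := fun u => by
    rw [inv_pow, inv_inv, ← pow_mul, ← pow_two, ← hF, FiniteField.pow_card]
  have hnorm : ∀ u : F, u ≠ 0 → ((u ^ q)⁻¹ = u ↔ u ^ (q + 1) = 1) := fun u hu => by
    rw [pow_succ]
    exact ⟨fun h => by nth_rw 2 [← h]; exact mul_inv_cancel₀ (pow_ne_zero _ hu), fun h => (eq_inv_of_mul_eq_one_right h).symm⟩
  set k := (q + 1) / d with hkdef
  have hk3 : q + 1 ∣ k * 3 :=
    calc q + 1 = k * d := (Nat.div_mul_cancel (Nat.gcd_dvd_right _ _)).symm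
      _ ∣ k * 3 := mul_dvd_mul_left _ (Nat.gcd_dvd_left _ _)
  have hpk : p * (q + 1) / d = k * p := by
    rw [Nat.mul_div_assoc _ (Nat.gcd_dvd_right 3 (q + 1)), mul_comm, hkdef]
  set N := (q ^ 2 - 1) / d with hNdef
  have hN3 : q ^ 2 - 1 ∣ N * 3 :=
    calc q ^ 2 - 1 = N * d := (Nat.div_mul_cancel (three_gcd_add_dvd_sq_sub_one q)).symm
      _ ∣ N * 3 := mul_dvd_mul_left _ (Nat.gcd_dvd_left _ _)
  -- a double root
  have double : ∀ u v : F, u * (u * v) = 1 → χ = (X - C u) ^ 2 * (X - C v) → u ≠ v →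
      (∀ w : F, w = a ∨ w = b ∨ w = c → w = u ∨ w = v) → (u = a ∨ u = b ∨ u = c) →
      orderOf (QuotientGroup.mk x : Cfsg.PSU 3 F q) ∣ k * p := by
    intro u v huv hfac3 hne hall hu
    have hu0 : u ≠ 0 := fun h => by simp [h] at huv
    have hu1 : (u ^ q)⁻¹ = u := by
      rcases hall _ (hmem u hu) with h | h
      · exact h
      exfalso
      refine hne ?_
      have h3 : v * u ^ q = 1 := by rw [← h, inv_mul_cancel₀ (pow_ne_zero _ hu0)]
      have h5 : u ^ 3 = 1 := by
        have hq' : u ^ q = u * u := by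
          calc u ^ q = u ^ q * (u * (u * v)) := by rw [huv, mul_one]
            _ = u * u * (v * u ^ q) := by ring
            _ = u * u := by rw [h3, mul_one]
        have h4 : u = u ^ 4 := by
          calc u = ((u ^ q)⁻¹ ^ q)⁻¹ := (hstar2 u).symm
            _ = u ^ 4 := by rw [inv_pow, inv_inv, hq', mul_pow, hq']; ring
        exact (mul_eq_left₀ hu0).1 (show u * u ^ 3 = u by rw [← pow_succ', ← h4])
      exact mul_left_cancel₀ (mul_ne_zero hu0 hu0) (by linear_combination h5 - huv)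
    refine kill _ (u ^ (k * p)) ?_
    rw [hfac3]
    refine IsCoprime.mul_dvd (cop hne).pow_left
      (Classical.PSLThreeSpectrum.X_sub_C_pow_dvd u k (Fact.out : p.Prime).two_le) ?_
    obtain ⟨w, hw⟩ : q + 1 ∣ k * p * 3 := by rw [mul_right_comm]; exact hk3.mul_right p
    have h3 : v ^ (k * p) = u ^ (k * p) := by
      calc v ^ (k * p) = (u * (u * v)) ^ (k * p) * u ^ (k * p) * (u ^ (k * p * 3))⁻¹ := by
            field_simp; ring
        _ = u ^ (k * p) := by
            rw [huv, hw, pow_mul u (q + 1), (hnorm u hu0).1 hu1]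
            simp
    rw [← h3]
    exact Classical.PSLThreeSpectrum.X_sub_C_dvd_pow v _
  by_cases hab : a = b
  · by_cases hac : a = c
    · subst hab hac
      refine Or.inr (Or.inl (hpk ▸ kill _ (a ^ (k * p)) ?_))
      rw [show χ = (X - C a) ^ 3 by rw [hχ']; ring]
      exact Classical.PSLThreeSpectrum.X_sub_C_pow_dvd a k
        (by have := (Fact.out : p.Prime).two_le; omega)
    · subst hab
      refine Or.inr (Or.inl (hpk ▸ double a c habc ?_ hac (fun w hw => by tauto) (Or.inl rfl)))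
      rw [hχ']; ring
  by_cases hac : a = c
  · subst hac
    refine Or.inr (Or.inl (hpk ▸ double a b (by linear_combination habc) ?_ hab
      (fun w hw => by tauto) (Or.inl rfl)))
    rw [hχ']; ring
  by_cases hbc : b = c
  · subst hbc
    refine Or.inr (Or.inl (hpk ▸ double b a (by linear_combination habc) ?_ (Ne.symm hab)
      (fun w hw => by tauto) (Or.inr (Or.inl rfl))))
    rw [hχ']; ring
  have hsplit : ∀ (N : ℕ) (u : F), a ^ N = u → b ^ N = u → c ^ N = u → χ ∣ X ^ N - C u := by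
    intro N u hau hbu hcu
    rw [hχ']
    refine IsCoprime.mul_dvd ((cop hab).mul_right (cop hac)) ?_ (IsCoprime.mul_dvd (cop hbc) ?_ ?_)
    · exact hau ▸ Classical.PSLThreeSpectrum.X_sub_C_dvd_pow a N
    · exact hbu ▸ Classical.PSLThreeSpectrum.X_sub_C_dvd_pow b N
    · exact hcu ▸ Classical.PSLThreeSpectrum.X_sub_C_dvd_pow c N
  -- an exchanged pair of roots
  have pair : ∀ u v w : F, u ≠ 0 → v ≠ 0 → (v ^ q)⁻¹ = w → u * (v * w) = 1 →
      u ^ N = v ^ N ∧ w ^ N = v ^ N := by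
    intro u v w hu hv hw huvw
    subst hw
    obtain ⟨m, hm⟩ : q ^ 2 - 1 ∣ N * (q + 1) :=
      calc q ^ 2 - 1 = N * d := (Nat.div_mul_cancel (three_gcd_add_dvd_sq_sub_one q)).symm
        _ ∣ N * (q + 1) := mul_dvd_mul_left _ (Nat.gcd_dvd_right _ _)
    have h1 : (v ^ N) ^ (q + 1) = 1 := by rw [← pow_mul, hm, pow_mul, hone v hv, one_pow]
    obtain ⟨m', hm'⟩ := hN3
    have h2 : (v ^ N) ^ 3 = 1 := by rw [← pow_mul, hm', pow_mul, hone v hv, one_pow]
    have hw : ((v ^ q)⁻¹) ^ N = v ^ N := by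
      rw [inv_pow, ← pow_mul, mul_comm, pow_mul]
      exact inv_eq_of_mul_eq_one_right (by rw [← pow_succ, h1])
    refine ⟨?_, hw⟩
    have h3 := congrArg (· ^ N) huvw
    simp only [mul_pow, one_pow, hw] at h3
    exact mul_right_cancel₀ (pow_ne_zero 2 (pow_ne_zero N hv)) (by linear_combination h3 - h2)
  by_cases hall : (a ^ q)⁻¹ = a ∧ (b ^ q)⁻¹ = b ∧ (c ^ q)⁻¹ = c
  · refine Or.inl (kill _ 1 (hsplit _ 1 ?_ ?_ ?_))
    exacts [(hnorm a ha0).1 hall.1, (hnorm b hb0).1 hall.2.1, (hnorm c hc0).1 hall.2.2]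
  refine Or.inr (Or.inr (Or.inl ?_))
  have hinv : ∀ {u v : F}, (u ^ q)⁻¹ = v → (v ^ q)⁻¹ = u := fun h => h ▸ hstar2 _
  have hA := hmem a (Or.inl rfl)
  have hB := hmem b (Or.inr (Or.inl rfl))
  have hC := hmem c (Or.inr (Or.inr rfl))
  rcases hA with hA | hA | hA
  · have hB' : (b ^ q)⁻¹ = c := by
      rcases hB with h | h | h
      · exact absurd ((hinv h).symm.trans hA).symm hab
      · refine absurd ⟨hA, h, ?_⟩ hall
        rcases hC with h' | h' | h'
        · exact absurd ((hinv h').symm.trans hA).symm hac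
        · exact absurd ((hinv h').symm.trans h).symm hbc
        · exact h'
      · exact h
    obtain ⟨h1, h2⟩ := pair a b c ha0 hb0 hB' habc
    exact kill _ _ (hsplit N (b ^ N) h1 rfl h2)
  · obtain ⟨h1, h2⟩ := pair c a b hc0 ha0 hA (by linear_combination habc)
    exact kill _ _ (hsplit N (a ^ N) rfl h2 h1)
  · obtain ⟨h1, h2⟩ := pair b a c hb0 ha0 hA (by linear_combination habc)
    exact kill _ _ (hsplit N (a ^ N) rfl h1 h2)

/-- A monomial element on three lines with a possible transvection part. -/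
theorem three_exists_elem (hF : Fintype.card F = q ^ 2)
    {B : (Fin 3 → F) →ₛₗ[powHom hF] (Fin 3 → F) →ₗ[F] F} (hB : IsHerm B) (a b c : Fˣ) (t : F)
    (hdet : a * b * c = 1)
    (hiso : ∀ u v : Fin 3 → F, B ![(a : F) * (u 0 + t * u 1), (b : F) * u 1, (c : F) * u 2]
      ![(a : F) * (v 0 + t * v 1), (b : F) * v 1, (c : F) * v 2] = B u v)
    (ht : t = 0 ∨ a = b) :
    ∃ y : Cfsg.PSU 3 F q, ∀ k : ℕ, y ^ k = 1 ↔ (k : F) * t = 0 ∧ a ^ k = b ^ k ∧ b ^ k = c ^ k := by
  let T : Matrix (Fin 3) (Fin 3) F := !![(a : F), (a : F) * t, 0; 0, (b : F), 0; 0, 0, (c : F)]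
  have hT1 : T.det = 1 := by
    rw [Matrix.det_fin_three]
    simp [T]
    rw [← Units.val_mul, ← Units.val_mul, hdet, Units.val_one]
  let e : (Fin 3 → F) ≃ₗ[F] (Fin 3 → F) :=
    T.toLinearEquiv' ((Matrix.isUnit_iff_isUnit_det T).2 (hT1 ▸ isUnit_one)).invertible
  have he : ∀ v, e v = ![(a : F) * (v 0 + t * v 1), (b : F) * v 1, (c : F) * v 2] := by
    intro v
    show T *ᵥ v = _
    ext i
    fin_cases i <;> simp [T, Matrix.mulVec, dotProduct, Fin.sum_univ_three, mul_add, mul_assoc]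
  have hdet' : LinearMap.det (e : (Fin 3 → F) →ₗ[F] (Fin 3 → F)) = 1 := by
    rw [show (e : (Fin 3 → F) →ₗ[F] (Fin 3 → F)) = Matrix.toLin' T from LinearMap.ext fun v => rfl,
      LinearMap.det_toLin', hT1]
  obtain ⟨y, hy⟩ := exists_psu_element (n := 3) hF le_rfl hB finrank_std e
    (fun u v => by rw [he, he]; exact hiso u v) hdet'
  have hpow : ∀ (k : ℕ) (v : Fin 3 → F), (e ^ k) v =
      ![(a : F) ^ k * (v 0 + (k : F) * t * v 1), (b : F) ^ k * v 1, (c : F) ^ k * v 2] := by
    intro k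
    induction k with
    | zero => intro v; ext i; fin_cases i <;> simp
    | succ k ih =>
      intro v
      rw [pow_succ e, LinearEquiv.mul_apply, ih, he]
      ext i
      fin_cases i
      · rcases ht with rfl | rfl <;> simp <;> ring
      · simp; ring
      · simp; ring
  refine ⟨y, fun k => (hy k).trans ⟨?_, ?_⟩⟩
  · rintro ⟨α, hα⟩
    have h1 := congrFun (hα (Pi.single 0 1)) 0
    have h2 := congrFun (hα (Pi.single 1 1)) 1
    have h3 := congrFun (hα (Pi.single 2 1)) 2
    have h4 := congrFun (hα (Pi.single 1 1)) 0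
    rw [hpow] at h1 h2 h3 h4
    simp at h1 h2 h3 h4
    exact ⟨mul_eq_zero.2 h4, Units.ext (by simp [h1, h2]), Units.ext (by simp [h2, h3])⟩
  · rintro ⟨h1, h2, h3⟩
    refine ⟨(a : F) ^ k, fun v => ?_⟩
    have h2' : (b : F) ^ k = (a : F) ^ k := by
      rw [← Units.val_pow_eq_pow_val, ← h2, Units.val_pow_eq_pow_val]
    have h3' : (c : F) ^ k = (a : F) ^ k := by
      rw [← Units.val_pow_eq_pow_val, ← h3, ← h2, Units.val_pow_eq_pow_val]
    rw [hpow, h1, h2', h3']
    ext i
    fin_cases i <;> simp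

/-- The form with a hyperbolic pair. -/
theorem three_exists_hyp_form (hF : Fintype.card F = q ^ 2) :
    ∃ B : (Fin 3 → F) →ₛₗ[powHom hF] (Fin 3 → F) →ₗ[F] F, IsHerm B ∧
      ∀ x y, B x y = x 0 ^ q * y 1 + x 1 ^ q * y 0 + x 2 ^ q * y 2 := by
  refine ⟨LinearMap.mk₂'ₛₗ (powHom hF) (RingHom.id F)
    (fun x y => x 0 ^ q * y 1 + x 1 ^ q * y 0 + x 2 ^ q * y 2)
    (fun x x' y => by simp only [Pi.add_apply, ← powHom_apply hF, map_add]; ring)
    (fun a x y => by simp only [Pi.smul_apply, smul_eq_mul, mul_pow, powHom_apply]; ring)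
    (fun x y y' => by simp only [Pi.add_apply]; ring)
    (fun a x y => by simp only [Pi.smul_apply, smul_eq_mul, RingHom.id_apply]; ring),
    ⟨powHom_isInvol hF, fun x y => ?_, fun x hx => ?_⟩, fun x y => rfl⟩
  · simp only [LinearMap.mk₂'ₛₗ_apply, map_add, map_mul, ← powHom_apply hF, (powHom_isInvol hF).invol]
    ring
  · have hq : q ≠ 0 := by have := two_le_of_card_sq hF; omega
    ext i
    fin_cases i
    · simpa [hq] using hx (Pi.single 1 1)
    · simpa [hq] using hx (Pi.single 0 1)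
    · simpa [hq] using hx (Pi.single 2 1)

omit [Field F] [Fintype F] in
theorem three_gcd_linear (q : ℕ) (hq : 1 ≤ q) : Nat.gcd (q + 1) (2 * q - 1) = Nat.gcd 3 (q + 1) := by
  obtain ⟨r, rfl⟩ : ∃ r, q = r + 1 := ⟨q - 1, by omega⟩
  apply Nat.dvd_antisymm
  · refine Nat.dvd_gcd ?_ (Nat.gcd_dvd_left _ _)
    have h := Nat.dvd_sub ((Nat.gcd_dvd_left (r + 1 + 1) (2 * (r + 1) - 1)).mul_left 2) (Nat.gcd_dvd_right _ _)
    rwa [show 2 * (r + 1 + 1) - (2 * (r + 1) - 1) = 3 by omega] at h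
  · refine Nat.dvd_gcd (Nat.gcd_dvd_right _ _) ?_
    have h := Nat.dvd_sub ((Nat.gcd_dvd_right 3 (r + 1 + 1)).mul_left 2) (Nat.gcd_dvd_left _ _)
    rwa [show 2 * (r + 1 + 1) - 3 = 2 * (r + 1) - 1 by omega] at h

/-- Elements of the four maximal orders. -/
theorem three_exists_orders (hp : p ≠ 2) (hF : Fintype.card F = q ^ 2) :
    (∃ y : Cfsg.PSU 3 F q, q + 1 ∣ orderOf y) ∧
    (∃ y : Cfsg.PSU 3 F q, p * (q + 1) / Nat.gcd 3 (q + 1) ∣ orderOf y) ∧
    (∃ y : Cfsg.PSU 3 F q, (q ^ 2 - 1) / Nat.gcd 3 (q + 1) ∣ orderOf y) ∧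
    (∃ y : Cfsg.PSU 3 F q, (q ^ 2 - q + 1) / Nat.gcd 3 (q + 1) ∣ orderOf y) := by
  have hq2 : 2 ≤ q := two_le_of_card_sq hF
  set d := Nat.gcd 3 (q + 1) with hd
  obtain ⟨η, hη⟩ := IsCyclic.exists_ofOrder_eq_natCard (α := Fˣ)
  have hQ : Nat.card Fˣ = q ^ 2 - 1 := by rw [Nat.card_units, Nat.card_eq_fintype_card, hF]
  rw [hQ] at hη
  set z := η ^ (q - 1) with hz
  have hsq : q ^ 2 - 1 = (q + 1) * (q - 1) := by rw [← Nat.sq_sub_sq, one_pow]
  have hzo : orderOf z = q + 1 := by
    rw [hz, orderOf_pow_of_dvd (by omega) (hη ▸ Dvd.intro_left _ hsq.symm), hη, hsq,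
      Nat.mul_div_cancel _ (by omega)]
  have hzz : z ^ q * z = 1 := by rw [← pow_succ, ← hzo, pow_orderOf_eq_one]
  have hzzF : (z : F) ^ q * (z : F) = 1 := by
    rw [← Units.val_pow_eq_pow_val, ← Units.val_mul, hzz, Units.val_one]
  refine ⟨?_, ?_, ?_, ?_⟩
  · obtain ⟨y, hy⟩ := three_exists_elem hF (hermStd_isHerm (n := 3) hF) z z⁻¹ 1 0 (by simp) (fun u v => by
        simp only [hermStd_apply, Cfsg.hermForm, Fin.sum_univ_three]
        simp
        linear_combination (v 0 * u 0 ^ q) * hzzF + (v 1 * u 1 ^ q) * inv_eq_one.2 hzzF) (Or.inl rfl)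
    refine ⟨y, hzo ▸ orderOf_dvd_of_pow_eq_one ?_⟩
    obtain ⟨-, h1, h2⟩ := (hy _).1 (pow_orderOf_eq_one y)
    rw [h1, h2, one_pow]
  · obtain ⟨B, hB, hBa⟩ := three_exists_hyp_form hF
    set r := (q + 1) / 2 with hr
    have hqo : Odd q := by
      obtain ⟨p', e, hp', hc, hq⟩ := exists_prime_pow_root hF
      obtain rfl : p' = p := CharP.eq F hc ‹CharP F p›
      exact hq ▸ (hp'.odd_of_ne_two hp).pow
    obtain ⟨m, hm⟩ := hqo
    have hr2 : (q - 1) * r = m * (2 * m + 2) := by
      rw [hr, hm, show (2 * m + 1 + 1) / 2 = m + 1 by omega, Nat.add_sub_cancel]; ring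
    have hts : ((η : F) ^ r) ^ (q - 1) = -1 := by
      have h1 : (((η : F) ^ r) ^ (q - 1)) ^ 2 = 1 := by
        rw [← pow_mul, ← pow_mul, show r * ((q - 1) * 2) = orderOf η by
          rw [hη, hsq, hr, hm, show (2 * m + 1 + 1) / 2 = m + 1 by omega]; ring, ← Units.val_pow_eq_pow_val,
          pow_orderOf_eq_one, Units.val_one]
      refine ((sq_eq_one_iff).1 h1).resolve_left fun h => ?_
      rw [← pow_mul, ← Units.val_pow_eq_pow_val, Units.val_eq_one, ← orderOf_dvd_iff_pow_eq_one, hη] at h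
      have hpos : 0 < r * (q - 1) := Nat.mul_pos (by omega) (by omega)
      have := Nat.le_of_dvd hpos h
      rw [hsq] at this
      have : q + 1 ≤ r := Nat.le_of_mul_le_mul_right this (by omega)
      omega
    set t : F := (η : F) ^ r with ht
    have ht0 : t ≠ 0 := pow_ne_zero _ η.ne_zero
    have htq : t ^ q + t = 0 := by
      rw [show q = q - 1 + 1 by omega, pow_succ, hts]; ring
    obtain ⟨y, hy⟩ := three_exists_elem hF hB z z (z * z)⁻¹ t (mul_inv_cancel _) (fun u v => by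
        rw [hBa, hBa]
        have hC : ((((z * z)⁻¹ : Fˣ)) : F) ^ q * ((((z * z)⁻¹ : Fˣ)) : F) = 1 := by
          rw [← Units.val_pow_eq_pow_val, ← Units.val_mul, inv_pow, ← mul_inv, mul_pow,
            mul_mul_mul_comm, hzz, one_mul, inv_one, Units.val_one]
        simp only [Matrix.cons_val_zero, Matrix.cons_val_one, Matrix.cons_val, mul_pow,
          show (u 0 + t * u 1) ^ q = u 0 ^ q + t ^ q * u 1 ^ q by
            rw [← powHom_apply hF, map_add, map_mul, powHom_apply, powHom_apply, powHom_apply]]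
        linear_combination (u 0 ^ q * v 1 + u 1 ^ q * v 0 + (t ^ q + t) * (u 1 ^ q * v 1)) * hzzF +
          (u 1 ^ q * v 1) * htq + (u 2 ^ q * v 2) * hC) (Or.inr rfl)
    refine ⟨y, ?_⟩
    obtain ⟨h1, -, h3⟩ := (hy _).1 (pow_orderOf_eq_one y)
    set o := orderOf y
    have hpo : p ∣ o := (CharP.cast_eq_zero_iff F p o).1 ((mul_eq_zero.1 h1).resolve_right ht0)
    rw [inv_pow, eq_inv_iff_mul_eq_one, mul_pow, ← mul_assoc,
      show z ^ o * z ^ o * z ^ o = z ^ (o * 3) by rw [pow_mul, pow_three, mul_assoc],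
      ← orderOf_dvd_iff_pow_eq_one, hzo] at h3
    have hk := (Classical.PSLThreeSpectrum.dvd_mul_iff_div_gcd (Nat.gcd_dvd_right 3 (q + 1))
      (Nat.gcd_dvd_left _ _) (Nat.gcd_comm _ _) (by omega)).1 h3
    rw [Nat.mul_div_assoc _ (Nat.gcd_dvd_right 3 (q + 1))]
    refine Nat.Coprime.mul_dvd_of_dvd_of_dvd (Nat.Coprime.coprime_dvd_right
      (Nat.div_dvd_of_dvd (Nat.gcd_dvd_right 3 (q + 1)))
      ((Fact.out : p.Prime).coprime_iff_not_dvd.2 fun h => ne_char_of_dvd (p := p) hF h rfl)) hpo hk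
  · obtain ⟨B, hB, hBa⟩ := three_exists_hyp_form hF
    have hη2 : (η : F) ^ (q * q) = η := by rw [← pow_two, ← hF, FiniteField.pow_card]
    obtain ⟨y, hy⟩ := three_exists_elem hF hB η (η ^ q)⁻¹ (η ^ q * η⁻¹) 0 (by group) (fun u v => by
        rw [hBa, hBa]
        simp [mul_pow, ← pow_mul, hη2]
        field_simp) (Or.inl rfl)
    refine ⟨y, ?_⟩
    obtain ⟨-, h1, h2⟩ := (hy _).1 (pow_orderOf_eq_one y)
    set o := orderOf y
    have e1 : q ^ 2 - 1 ∣ o * (q + 1) := by
      rw [← hη, orderOf_dvd_iff_pow_eq_one, mul_add, mul_one, pow_add, mul_comm o q, pow_mul, h1, inv_pow,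
        mul_inv_cancel]
    have e2 : q ^ 2 - 1 ∣ o * (2 * q - 1) := by
      rw [← hη, orderOf_dvd_iff_pow_eq_one]
      have h3 : η ^ (o * (2 * q)) = η ^ o := by
        rw [mul_comm o, pow_mul, pow_mul]
        rw [inv_pow, mul_pow, inv_pow, inv_eq_iff_mul_eq_one] at h2
        calc ((η ^ 2) ^ q) ^ o = ((η ^ q) ^ o * ((η ^ q) ^ o * (η ^ o)⁻¹)) * η ^ o := by
              rw [← pow_mul η 2 q, ← pow_mul, ← pow_mul]; group
          _ = η ^ o := by rw [h2, one_mul]
      have h4 : η ^ (o * (2 * q - 1)) * η ^ o = η ^ o := by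
        rw [← pow_add, show o * (2 * q - 1) + o = o * (2 * q) by
          rw [← Nat.mul_succ, Nat.succ_eq_add_one, Nat.sub_add_cancel (by omega)], h3]
      exact mul_eq_right.1 h4
    have e3 := Nat.dvd_gcd e1 e2
    rw [Nat.gcd_mul_left, three_gcd_linear q (by omega)] at e3
    refine (Nat.div_dvd_iff_dvd_mul (three_gcd_add_dvd_sq_sub_one q) (Nat.gcd_pos_of_pos_left _ (by norm_num))).2 ?_
    rwa [mul_comm]
  · have h := exists_torus_psu (n := 3) (F := F) hF le_rfl
    rw [torusOrder_three q (by omega)] at h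
    exact h

/-- The element orders of `PSU 3` in odd characteristic. -/
theorem three_range_orderOf (hp : p ≠ 2) (hF : Fintype.card F = q ^ 2) :
    Set.range (orderOf : Cfsg.PSU 3 F q → ℕ) =
      {s : ℕ | s ∣ q + 1} ∪ {s : ℕ | s ∣ p * (q + 1) / Nat.gcd 3 (q + 1)} ∪
        {s : ℕ | s ∣ (q ^ 2 - 1) / Nat.gcd 3 (q + 1)} ∪ {s : ℕ | s ∣ (q ^ 2 - q + 1) / Nat.gcd 3 (q + 1)} := by
  ext m
  simp only [Set.mem_union, Set.mem_setOf_eq, or_assoc]
  constructor
  · rintro ⟨g, rfl⟩
    exact three_exists_exponent p hp hF g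
  · intro hm
    have key : ∀ {N : ℕ}, m ∣ N → (∃ g : Cfsg.PSU 3 F q, N ∣ orderOf g) →
        m ∈ Set.range (orderOf : Cfsg.PSU 3 F q → ℕ) := by
      rintro N h ⟨g, hg⟩
      exact ⟨g ^ (orderOf g / m), orderOf_pow_orderOf_div (orderOf_pos g).ne' (h.trans hg)⟩
    obtain ⟨h1, h2, h3, h4⟩ := three_exists_orders p hp hF
    rcases hm with h | h | h | h
    exacts [key h h1, key h h2, key h h3, key h h4]

end CfsgLib.HallGen.UnitarySpectrum
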